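import Cfsg.Agent.Lib.NilProduct.Kegel
import Cfsg.Agent.Lib.Hall.Basic
import Cfsg.Agent.Lib.Critical.Basic

/-!
# A factor lies in a proper normal subgroup
-/

set_option autoImplicit false
set_option linter.style.haveILetI false

open scoped Pointwise

namespace CfsgLib.NilProduct

universe u

variable {G : Type u} [Group G]

theorem exists_normal_ge_of_nilpotent [Finite G] [Group.IsNilpotent G] {B : Subgroup G} (hB : B ≠ ⊤) :
    ∃ N : Subgroup G, N.Normal ∧ N ≠ ⊤ ∧ B ≤ N := by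
  obtain ⟨N, hBN, hN⟩ := Finite.exists_le_maximal (p := fun M : Subgroup G => M ≠ ⊤) (a := B) hB
  refine ⟨N, ?_, hN.prop, hBN⟩
  have hlt := Group.normalizerCondition_of_isNilpotent (G := G) N (lt_top_iff_ne_top.mpr hN.prop)
  rw [← Subgroup.normalizer_eq_top_iff]
  by_contra h
  exact hlt.not_ge (hN.le_of_ge h hlt.le)

/-- A normal `p`-subgroup meets the centre of a normal `p`-overgroup. -/
theorem inf_center_ne_bot [Finite G] {p : ℕ} [Fact p.Prime] {Q N : Subgroup G} [N.Normal]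
    (hQ : IsPGroup p Q) (hNQ : N ≤ Q) (hN : N ≠ ⊥) : N ⊓ Subgroup.centralizer (Q : Set G) ≠ ⊥ := by
  haveI : (N.subgroupOf Q).Normal := Subgroup.normal_subgroupOf
  haveI := hQ.isNilpotent
  have h := CfsgLib.Critical.inf_center_ne_bot (Q := Q) (N.subgroupOf Q)
    (fun h => hN ((Subgroup.subgroupOf_eq_bot.mp h).eq_bot_of_le hNQ))
  intro h0
  refine h (eq_bot_iff.mpr fun x hx => ?_)
  rw [Subgroup.mem_bot]
  refine Subtype.ext (Subgroup.mem_bot.mp (h0 ▸ ?_))
  refine Subgroup.mem_inf.mpr ⟨(Subgroup.mem_inf.mp hx).1, Subgroup.mem_centralizer_iff.mpr fun q hq => ?_⟩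
  exact congrArg Subtype.val (Subgroup.mem_center_iff.mp (Subgroup.mem_inf.mp hx).2 ⟨q, hq⟩)

theorem exists_normal_containing_aux (n : ℕ) : ∀ (G : Type u) [Group G] [Finite G], Nat.card G = n →
    ∀ A B : Subgroup G, Group.IsNilpotent A → Group.IsNilpotent B →
    (∀ g : G, ∃ a ∈ A, ∃ b ∈ B, g = a * b) → (A ≠ ⊤ ∨ B ≠ ⊤) →
    ∃ N : Subgroup G, N.Normal ∧ N ≠ ⊤ ∧ (A ≤ N ∨ B ≤ N) := by
  induction n using Nat.strong_induction_on with
  | _ n IH =>
  intro G _ _ hn A B hA hB hAB hproper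
  subst hn
  by_cases hAt : A = ⊤
  · haveI : Group.IsNilpotent G :=
      haveI := hA
      Group.nilpotent_of_surjective A.subtype (fun g => ⟨⟨g, hAt ▸ trivial⟩, rfl⟩)
    obtain ⟨N, hN, hN1, hN2⟩ := exists_normal_ge_of_nilpotent (hproper.resolve_left (by simp [hAt]))
    exact ⟨N, hN, hN1, Or.inr hN2⟩
  by_cases hBt : B = ⊤
  · haveI : Group.IsNilpotent G :=
      haveI := hB
      Group.nilpotent_of_surjective B.subtype (fun g => ⟨⟨g, hBt ▸ trivial⟩, rfl⟩)
    obtain ⟨N, hN, hN1, hN2⟩ := exists_normal_ge_of_nilpotent (hproper.resolve_right (by simp [hBt]))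
    exact ⟨N, hN, hN1, Or.inl hN2⟩
  by_cases hq : ∃ N : Subgroup G, N.Normal ∧ N ≠ ⊥ ∧ (A ⊔ N ≠ ⊤ ∨ B ⊔ N ≠ ⊤)
  · obtain ⟨N, hN, hN1, hNp⟩ := hq
    haveI := hN
    set f := QuotientGroup.mk' N
    have hmap : ∀ C : Subgroup G, C ⊔ N ≠ ⊤ → C.map f ≠ ⊤ := fun C hC h => hC (by
      have := congrArg (Subgroup.comap f) h
      rwa [Subgroup.comap_map_eq, QuotientGroup.ker_mk', Subgroup.comap_top] at this)
    obtain ⟨M, hM, hM1, hM2⟩ := IH _ (card_quotient_lt hN1) _ rfl _ _ (isNilpotent_map hA f)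
      (isNilpotent_map hB f) (exists_fac_map hAB N) (hNp.imp (hmap A) (hmap B))
    haveI := hM
    refine ⟨M.comap f, inferInstance, fun h => hM1 ?_,
      hM2.imp Subgroup.map_le_iff_le_comap.mp Subgroup.map_le_iff_le_comap.mp⟩
    rw [← Subgroup.map_comap_eq_self_of_surjective (QuotientGroup.mk'_surjective N) M, h]
    exact Subgroup.map_top_of_surjective _ (QuotientGroup.mk'_surjective N)
  push Not at hq
  exfalso
  haveI : Nontrivial G := not_subsingleton_iff_nontrivial.mp fun h => hAt (Subsingleton.elim _ _)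
  haveI := isSolvable_mul A B hA hB hAB
  obtain ⟨p, hp, N, hN, hN1, hNp, hNc⟩ := CfsgLib.Hall.exists_normal_pgroup_ne_bot (G := G)
  haveI := Fact.mk hp
  haveI := hN
  have hprime : ∀ C : Subgroup G, Group.IsNilpotent C → C ≠ ⊤ →
      (∀ K : Subgroup G, K.Normal → K ≠ ⊥ → C ⊔ K = ⊤) → ¬ p ∣ Nat.card C := by
    intro C hC hCt hall hpC
    have hmeet : ∀ K : Subgroup G, K.Normal → K ≤ C → K = ⊥ := fun K hK hKC => by
      by_contra h
      exact hCt (sup_eq_left.mpr hKC ▸ hall K hK h)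
    obtain ⟨P⟩ := (inferInstance : Nonempty (Sylow p C))
    set X := (P : Subgroup C).map C.subtype
    have hXC : X ≤ C := Subgroup.map_subtype_le _
    have hXn := normal_sylow_map hC P
    obtain ⟨hQn, -⟩ := sup_sylow hC (hall N hN hN1) P
    set Q := X ⊔ N
    haveI := hQn
    have hQp : IsPGroup p Q := IsPGroup.to_sup_of_normal_right (P.2.map _) hNp
    set N₁ := N ⊓ Subgroup.centralizer (Q : Set G)
    have hN₁ : N₁ ≠ ⊥ := inf_center_ne_bot hQp le_sup_right hN1
    haveI : N₁.Normal := by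
      haveI : (Subgroup.centralizer (Q : Set G)).Normal := Subgroup.normal_centralizer
      exact Subgroup.normal_inf_normal _ _
    -- so `X` is normal
    have hX : X.Normal := by
      rw [← Subgroup.normalizer_eq_top_iff, eq_top_iff, ← hall N₁ inferInstance hN₁]
      refine sup_le ((Subgroup.normal_subgroupOf_iff_le_normalizer hXC).mp hXn) fun n hn => ?_
      exact mem_normalizer_of_forall_commute fun x hx =>
        (Subgroup.mem_centralizer_iff.mp hn.2 x (Subgroup.mem_sup_left hx)).symm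
    exact P.ne_bot_of_dvd_card hpC
      ((Subgroup.map_eq_bot_iff_of_injective _ C.subtype_injective).mp (hmeet X hX hXC))
  have hA' := hprime A hA hAt fun K hK hK1 => (hq K hK hK1).1
  have hB' := hprime B hB hBt fun K hK hK1 => (hq K hK hK1).2
  obtain ⟨P, Q, R, hR⟩ := Cfsg.Agent.S0560.result A B hAB p
  have hbot : ∀ (C : Subgroup G) (S : Sylow p C), ¬ p ∣ Nat.card C →
      (S : Subgroup C).map C.subtype = ⊥ := fun C S hS => by
    rw [Subgroup.map_eq_bot_iff_of_injective _ C.subtype_injective, ← Subgroup.card_eq_one,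
      S.card_eq_multiplicity, Nat.factorization_eq_zero_of_not_dvd hS, pow_zero]
  rw [hbot A P hA', hbot B Q hB'] at hR
  refine hN1 (eq_bot_iff.mpr ((hNp.le_sylow_of_normal R).trans fun x hx => ?_))
  rw [← SetLike.mem_coe, hR] at hx
  obtain ⟨a, ha, b, hb, rfl⟩ := hx
  rw [SetLike.mem_coe, Subgroup.mem_bot] at ha hb
  simp [ha, hb]

end CfsgLib.NilProduct
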