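import Cfsg.Agent.Lib.NilProduct.Solvable
import Cfsg.Agent.S0560
import Cfsg.Agent.S0566

/-!
# Kegel: a product of two nilpotent groups is solvable
-/

set_option autoImplicit false
set_option linter.style.haveILetI false

open scoped Pointwise

namespace CfsgLib.NilProduct

universe u

variable {G : Type u} [Group G] [Finite G]

theorem conj_mem_of_normal_subgroupOf {A X : Subgroup G} (hXA : X ≤ A) (hX : (X.subgroupOf A).Normal)
    {a x : G} (ha : a ∈ A) (hx : x ∈ X) : a * x * a⁻¹ ∈ X :=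
  Subgroup.mem_subgroupOf.mp
    (hX.conj_mem ⟨x, hXA hx⟩ (Subgroup.mem_subgroupOf.mpr hx) ⟨a, ha⟩)

theorem normal_sylow_map {A : Subgroup G} (hA : Group.IsNilpotent A) {p : ℕ} [Fact p.Prime]
    (P : Sylow p A) : (((P : Subgroup A).map A.subtype).subgroupOf A).Normal := by
  haveI := hA
  rw [Subgroup.subgroupOf, Subgroup.comap_map_eq_self_of_injective A.subtype_injective]
  exact CfsgLib.Transfer.sylow_normal_of_isNilpotent P

/-- If `G = A N`, the join of `N` and the Sylow subgroup of `A` is normal of index prime to `p`. -/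
theorem sup_sylow {A : Subgroup G} (hA : Group.IsNilpotent A) {N : Subgroup G} [N.Normal]
    (hAN : A ⊔ N = ⊤) {p : ℕ} [hp : Fact p.Prime] (P : Sylow p A) :
    ((P : Subgroup A).map A.subtype ⊔ N).Normal ∧
      ∀ x : G, (∃ k, orderOf x = p ^ k) → x ∈ (P : Subgroup A).map A.subtype ⊔ N := by
  haveI := hA
  haveI hPn := CfsgLib.Transfer.sylow_normal_of_isNilpotent P
  set X := (P : Subgroup A).map A.subtype
  set H := X ⊔ N
  have hAH : A ≤ Subgroup.normalizer (H : Set G) := by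
    have key : ∀ a ∈ A, ∀ y ∈ H, a * y * a⁻¹ ∈ H := fun a ha y hy => by
      have h1 : H ≤ H.comap (MulAut.conj a).toMonoidHom := sup_le
        (fun x hx => Subgroup.mem_sup_left (conj_mem_of_normal_subgroupOf (Subgroup.map_subtype_le _)
          (normal_sylow_map hA P) ha hx))
        (fun x hx => Subgroup.mem_sup_right (Subgroup.Normal.conj_mem inferInstance x hx a))
      exact h1 hy
    intro a ha
    refine Subgroup.mem_normalizer_iff.mpr fun y => ⟨key a ha y, fun hy => ?_⟩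
    simpa [mul_assoc] using key a⁻¹ (inv_mem ha) _ hy
  haveI hH : H.Normal := by
    rw [← Subgroup.normalizer_eq_top_iff, eq_top_iff, ← hAN]
    exact sup_le hAH (le_sup_right.trans Subgroup.le_normalizer)
  refine ⟨hH, fun x ⟨k, hk⟩ => ?_⟩
  obtain ⟨a, ha, n, hn, rfl⟩ : x ∈ (A : Set G) * (N : Set G) := by
    rw [← Subgroup.mul_normal, hAN]; trivial
  set f := QuotientGroup.mk' H
  have hfa : f (a * n) = f a := by
    rw [map_mul, show f n = 1 from (QuotientGroup.eq_one_iff _).mpr (Subgroup.mem_sup_right hn), mul_one]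
  have h1 : orderOf (f (a * n)) ∣ (P : Subgroup A).index := by
    rw [hfa]
    refine orderOf_dvd_of_pow_eq_one ?_
    rw [← map_pow]
    refine (QuotientGroup.eq_one_iff _).mpr (Subgroup.mem_sup_left ?_)
    exact ⟨⟨a, ha⟩ ^ (P : Subgroup A).index, Subgroup.pow_index_mem _ _, by simp⟩
  refine (QuotientGroup.eq_one_iff _).mp (orderOf_eq_one_iff.mp
    (Nat.eq_one_of_dvd_coprimes ((hp.out.coprime_iff_not_dvd.mpr P.not_dvd_index).pow_left k)
      (hk ▸ orderOf_map_dvd f _) h1))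

theorem fittingSubgroup_eq_bot {N : Subgroup G} [N.Normal]
    (hmin : ∀ M : Subgroup G, M.Normal → M ≠ ⊥ → N ≤ M) (hN : ¬ Group.IsSolvable N) :
    Cfsg.fittingSubgroup N = ⊥ := by
  haveI := Fitting.fittingSubgroup_isNilpotent (G := N)
  haveI : (Cfsg.fittingSubgroup N).Characteristic := Subgroup.characteristic_iff_map_le.mpr fun φ =>
    Fitting.le_fittingSubgroup (Fitting.fittingSubgroup_normal.map _ φ.surjective)
      (isNilpotent_map inferInstance _)
  by_contra hF
  have h1 := hmin ((Cfsg.fittingSubgroup N).map N.subtype)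
    ConjAct.normal_of_characteristic_of_normal
    (fun h => hF ((Subgroup.map_eq_bot_iff_of_injective _ N.subtype_injective).mp h))
  refine hN (solvable_of_surjective (f := (Cfsg.fittingSubgroup N).subtype) fun x => ?_)
  obtain ⟨y, hy, e⟩ := h1 x.2
  exact ⟨⟨y, hy⟩, N.subtype_injective e⟩

/-- A normal subgroup of `N X` containing `X` and not `N` makes `X` trivial. -/
theorem sylow_eq_bot {A N X : Subgroup G} [N.Normal] (hAN : A ⊔ N = ⊤) (hXA : X ≤ A)
    (hX : (X.subgroupOf A).Normal) (hmin : ∀ M : Subgroup G, M.Normal → M ≠ ⊥ → N ≤ M)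
    (hN1 : N ≠ ⊥) (hN : ¬ Group.IsSolvable N) {H D : Subgroup G} (hNH : N ≤ H) (hDH : D ≤ H)
    (hD : H ≤ Subgroup.normalizer (D : Set G)) (hXD : X ≤ D) (hND : ¬ N ≤ D) : X = ⊥ := by
  set N₀ := D ⊓ N
  have hN₀n : ∀ h ∈ H, ∀ u ∈ N₀, h * u * h⁻¹ ∈ N₀ := fun h hh u hu =>
    ⟨(Subgroup.mem_normalizer_iff.mp (hD hh) u).mp hu.1, Subgroup.Normal.conj_mem inferInstance u hu.2 h⟩
  -- the centralizer of `N₀` in `N` is nontrivial
  set K := N ⊓ Subgroup.centralizer (N₀ : Set G)
  have hKn : ∀ h ∈ H, ∀ k ∈ K, h * k * h⁻¹ ∈ K := by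
    intro h hh k hk
    refine ⟨Subgroup.Normal.conj_mem inferInstance k hk.1 h, Subgroup.mem_centralizer_iff.mpr fun u hu => ?_⟩
    have h1 : h⁻¹ * u * h ∈ N₀ := by simpa using hN₀n h⁻¹ (inv_mem hh) u hu
    have h2 := Subgroup.mem_centralizer_iff.mp hk.2 _ h1
    calc u * (h * k * h⁻¹) = h * ((h⁻¹ * u * h) * k) * h⁻¹ := by group
      _ = h * (k * (h⁻¹ * u * h)) * h⁻¹ := by rw [h2]
      _ = h * k * h⁻¹ * u := by group
  have hZ : ∀ u ∈ N₀, u ∈ K → u = 1 := by
    intro u hu huK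
    set Z := (N₀ ⊓ K).subgroupOf N
    have hZn : Z.Normal := ⟨fun x hx g => Subgroup.mem_subgroupOf.mpr
      ⟨hN₀n g (hNH g.2) _ (Subgroup.mem_subgroupOf.mp hx).1,
        hKn g (hNH g.2) _ (Subgroup.mem_subgroupOf.mp hx).2⟩⟩
    have hZc : IsMulCommutative Z := ⟨⟨fun a b => Subtype.ext (Subtype.ext
      (Subgroup.mem_centralizer_iff.mp (Subgroup.mem_subgroupOf.mp b.2).2.2 _
        (Subgroup.mem_subgroupOf.mp a.2).1))⟩⟩
    haveI : Group.IsNilpotent Z := by
      letI : CommGroup Z := { (inferInstance : Group Z) with mul_comm := hZc.is_comm.comm }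
      infer_instance
    have h1 := Fitting.le_fittingSubgroup hZn inferInstance
      (show (⟨u, hu.2⟩ : N) ∈ Z from ⟨hu, huK⟩)
    rw [fittingSubgroup_eq_bot hmin hN, Subgroup.mem_bot] at h1
    exact congrArg Subtype.val h1
  have hK1 : K ≠ ⊥ := by
    classical
    haveI : Nontrivial N := (Subgroup.nontrivial_iff_ne_bot N).mpr hN1
    obtain ⟨M₁, -, hM₁⟩ := Finite.exists_le_minimal
      (p := fun M : Subgroup G => M ≤ N ∧ M ≠ ⊥ ∧ N ≤ Subgroup.normalizer (M : Set G)) (a := N)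
      ⟨le_rfl, hN1, Subgroup.le_normalizer⟩
    obtain ⟨hM₁N, hM₁1, hM₁n⟩ := hM₁.prop
    obtain ⟨g, m, hm, hgm⟩ : ∃ g : G, ∃ m ∈ M₁, g * m * g⁻¹ ∉ N₀ := by
      by_contra hc
      push Not at hc
      refine hND ((hmin (Subgroup.normalClosure (M₁ : Set G)) inferInstance
        (fun h => hM₁1 (le_bot_iff.mp (h ▸ Subgroup.subset_normalClosure)))).trans ?_)
      rw [Subgroup.normalClosure, Subgroup.closure_le]
      intro y hy
      obtain ⟨x, hx, hxy⟩ := Group.mem_conjugatesOfSet_iff.mp hy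
      obtain ⟨g, rfl⟩ := isConj_iff.mp hxy
      exact (hc g x hx).1
    set M₂ := M₁.map (MulAut.conj g).toMonoidHom
    have hM₂N : M₂ ≤ N := by
      rintro _ ⟨x, hx, rfl⟩
      exact Subgroup.Normal.conj_mem inferInstance x (hM₁N hx) g
    have hM₂n : ∀ n ∈ N, ∀ x ∈ M₂, n * x * n⁻¹ ∈ M₂ := by
      rintro n hn _ ⟨x, hx, rfl⟩
      have h1 : g⁻¹ * n * g ∈ N := by simpa using Subgroup.Normal.conj_mem inferInstance n hn g⁻¹
      refine ⟨(g⁻¹ * n * g) * x * (g⁻¹ * n * g)⁻¹, (Subgroup.mem_normalizer_iff.mp (hM₁n h1) x).mp hx, ?_⟩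
      simp [MulAut.conj_apply, mul_assoc]
    -- by minimality `M₂` meets `N₀` trivially
    have hdisj : ∀ x ∈ M₂, x ∈ N₀ → x = 1 := by
      intro x hx hx₀
      by_contra hx1
      set M₃ := (M₂ ⊓ N₀).map (MulAut.conj g⁻¹).toMonoidHom
      have h3 : M₃ ≤ M₁ := by
        rintro _ ⟨_, ⟨⟨y, hy, rfl⟩, -⟩, rfl⟩
        simpa [mul_assoc] using hy
      have h4 := hM₁.le_of_le (y := M₃) ⟨h3.trans hM₁N, fun h => hx1 ?_, ?_⟩ h3
      · obtain ⟨y, hy, e⟩ := h4 hm
        refine hgm ?_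
        rw [show g * m * g⁻¹ = y by rw [← e]; simp [mul_assoc]]
        exact hy.2
      · have : (MulAut.conj g⁻¹).toMonoidHom x ∈ M₃ := Subgroup.mem_map_of_mem _ ⟨hx, hx₀⟩
        rw [h, Subgroup.mem_bot] at this
        exact (MulAut.conj g⁻¹).injective (this.trans (map_one _).symm)
      · intro n hn
        have key : ∀ n ∈ N, ∀ y ∈ M₃, n * y * n⁻¹ ∈ M₃ := by
          rintro n hn _ ⟨y, hy, rfl⟩
          have h1 : g * n * g⁻¹ ∈ N := Subgroup.Normal.conj_mem inferInstance n hn g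
          refine ⟨(g * n * g⁻¹) * y * (g * n * g⁻¹)⁻¹,
            ⟨hM₂n _ h1 y hy.1, hN₀n _ (hNH h1) y hy.2⟩, ?_⟩
          simp [MulAut.conj_apply, mul_assoc]
        refine Subgroup.mem_normalizer_iff.mpr fun y => ⟨key n hn y, fun hy => ?_⟩
        simpa [mul_assoc] using key n⁻¹ (inv_mem hn) _ hy
    intro hK
    refine hM₁1 ((Subgroup.map_eq_bot_iff_of_injective (f := (MulAut.conj g).toMonoidHom) _
      (MulAut.conj g).injective).mp (le_bot_iff.mp ?_))
    show M₂ ≤ ⊥
    rw [← hK]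
    intro x hx
    refine ⟨hM₂N hx, Subgroup.mem_centralizer_iff.mpr fun u hu => ?_⟩
    have h1 : u * x * u⁻¹ * x⁻¹ = 1 := hdisj _
      (mul_mem (hM₂n u hu.2 x hx) (inv_mem hx))
      (by
        simpa [mul_assoc] using mul_mem hu (hN₀n x (hNH (hM₂N hx)) _ (inv_mem hu)))
    exact mul_inv_eq_iff_eq_mul.mp (mul_inv_eq_one.mp h1)
  -- `X` centralizes it
  have hXK : ∀ x ∈ X, ∀ k ∈ K, x * k = k * x := by
    intro x hx k hk
    have h1 : x * k * x⁻¹ * k⁻¹ ∈ K :=
      mul_mem (hKn x (hDH (hXD hx)) k hk) (inv_mem hk)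
    have h2 : x * k * x⁻¹ * k⁻¹ ∈ N₀ := by
      refine ⟨?_, N.mul_mem (Subgroup.Normal.conj_mem inferInstance k hk.1 x) (N.inv_mem hk.1)⟩
      have h3 := (Subgroup.mem_normalizer_iff.mp (hD (hNH hk.1)) x⁻¹).mp (inv_mem (hXD hx))
      simpa [mul_assoc] using mul_mem (hXD hx) h3
    exact mul_inv_eq_iff_eq_mul.mp (mul_inv_eq_one.mp (hZ _ h2 h1))
  -- so it centralizes `N`
  have hNX : N ≤ Subgroup.centralizer (X : Set G) := by
    refine (hmin (Subgroup.normalClosure (K : Set G)) inferInstance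
      (fun h => hK1 (le_bot_iff.mp (h ▸ Subgroup.subset_normalClosure)))).trans ?_
    rw [Subgroup.normalClosure, Subgroup.closure_le]
    intro y hy
    obtain ⟨k, hk, hky⟩ := Group.mem_conjugatesOfSet_iff.mp hy
    obtain ⟨g, rfl⟩ := isConj_iff.mp hky
    obtain ⟨a, ha, n, hn, rfl⟩ : g ∈ (A : Set G) * (N : Set G) := by
      rw [← Subgroup.mul_normal, hAN]; trivial
    refine Subgroup.mem_centralizer_iff.mpr fun x hx => ?_
    have hx' : a⁻¹ * x * a ∈ X := by
      simpa using conj_mem_of_normal_subgroupOf hXA hX (inv_mem ha) hx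
    have hk' := hKn n (hNH hn) k hk
    calc x * (a * n * k * (a * n)⁻¹) = a * ((a⁻¹ * x * a) * (n * k * n⁻¹)) * a⁻¹ := by group
      _ = a * ((n * k * n⁻¹) * (a⁻¹ * x * a)) * a⁻¹ := by rw [hXK _ hx' _ hk']
      _ = a * n * k * (a * n)⁻¹ * x := by group
  by_contra hX1
  have h1 : N ≤ Subgroup.centralizer (N : Set G) := by
    haveI : (Subgroup.centralizer (N : Set G)).Normal := Subgroup.normal_centralizer
    refine hmin _ inferInstance fun h => hX1 (le_bot_iff.mp (h ▸ ?_))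
    exact fun x hx => Subgroup.mem_centralizer_iff.mpr fun n hn =>
      (Subgroup.mem_centralizer_iff.mp (hNX hn) x hx).symm
  exact hN (Group.isSolvable_of_comm fun a b => Subtype.ext (Subgroup.mem_centralizer_iff.mp (h1 b.2) a a.2))

theorem isSolvable_mul_aux (n : ℕ) : ∀ (G : Type u) [Group G] [Finite G], Nat.card G = n →
    ∀ A B : Subgroup G, Group.IsNilpotent A → Group.IsNilpotent B →
    (∀ g : G, ∃ a ∈ A, ∃ b ∈ B, g = a * b) → Group.IsSolvable G := by
  induction n using Nat.strong_induction_on with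
  | _ n IH =>
  intro G _ _ hn A B hA hB hAB
  subst hn
  by_cases hcop : (Nat.card A).Coprime (Nat.card B)
  · exact isSolvable_of_coprime A B hA hB hcop hAB
  have hover : ∀ K : Subgroup G, A ≤ K ∨ B ≤ K → K ≠ ⊤ → Group.IsSolvable K := by
    intro K hK hK1
    refine IH _ (card_lt_of_ne_top hK1) K rfl _ _ (isNilpotent_subgroupOf hA K)
      (isNilpotent_subgroupOf hB K) (exists_fac_subgroupOf fun g hg => ?_)
    obtain ⟨a, ha, b, hb, rfl⟩ := hAB g
    rcases hK with h | h
    · exact ⟨a, ⟨h ha, ha⟩, b, ⟨by simpa using mul_mem (inv_mem (h ha)) hg, hb⟩, rfl⟩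
    · exact ⟨a, ⟨by simpa using mul_mem hg (inv_mem (h hb)), ha⟩, b, ⟨h hb, hb⟩, rfl⟩
  by_contra hns
  haveI : Nontrivial G := not_subsingleton_iff_nontrivial.mp fun h => hns inferInstance
  have hrad : ∀ M : Subgroup G, M.Normal → M ≠ ⊥ → ¬ Group.IsSolvable M := fun M hM hM1 hMs =>
    haveI := hM
    hns (isSolvable_of_normal M hMs (IH _ (card_quotient_lt hM1) _ rfl _ _
      (isNilpotent_map hA _) (isNilpotent_map hB _) (exists_fac_map hAB M)))
  obtain ⟨N, -, hNmin⟩ := Finite.exists_le_minimal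
    (p := fun M : Subgroup G => M.Normal ∧ M ≠ ⊥) (a := (⊤ : Subgroup G))
    ⟨inferInstance, top_ne_bot⟩
  obtain ⟨hN, hN1⟩ := hNmin.prop
  haveI := hN
  have hmin : ∀ M : Subgroup G, M.Normal → M ≠ ⊥ → N ≤ M := by
    intro M hM hM1
    haveI := hM
    by_cases hd : M ⊓ N = ⊥
    · exfalso
      have hQ := IH _ (card_quotient_lt hM1) _ rfl _ _ (isNilpotent_map hA _)
        (isNilpotent_map hB _) (exists_fac_map hAB M)
      haveI := hQ
      refine hrad N hN hN1 (solvable_of_solvable_injective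
        (f := (QuotientGroup.mk' M).comp N.subtype) ?_)
      rw [← MonoidHom.ker_eq_bot_iff, eq_bot_iff]
      intro x hx
      rw [Subgroup.mem_bot]
      exact Subtype.ext (Subgroup.mem_bot.mp (hd ▸ ⟨(QuotientGroup.eq_one_iff _).mp hx, x.2⟩))
    · exact (hNmin.le_of_le ⟨inferInstance, hd⟩ inf_le_right).trans inf_le_left
  have hNs := hrad N hN hN1
  have htop : ∀ C : Subgroup G, (C = A ∨ C = B) → C ⊔ N = ⊤ := fun C hC => by
    by_contra h
    have hCK : A ≤ C ⊔ N ∨ B ≤ C ⊔ N := by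
      rcases hC with rfl | rfl
      · exact Or.inl le_sup_left
      · exact Or.inr le_sup_left
    have := hover (C ⊔ N) hCK h
    exact hNs (solvable_of_solvable_injective
      (Subgroup.inclusion_injective (le_sup_right : N ≤ C ⊔ N)))
  obtain ⟨p, hp, hpA, hpB⟩ := Nat.Prime.not_coprime_iff_dvd.mp hcop
  haveI := Fact.mk hp
  obtain ⟨P, Q, R, hR⟩ := Cfsg.Agent.S0560.result A B hAB p
  set X := (P : Subgroup A).map A.subtype
  set Y := (Q : Subgroup B).map B.subtype
  have hX1 : X ≠ ⊥ := fun h => P.ne_bot_of_dvd_card hpA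
    ((Subgroup.map_eq_bot_iff_of_injective _ A.subtype_injective).mp h)
  have hY1 : Y ≠ ⊥ := fun h => Q.ne_bot_of_dvd_card hpB
    ((Subgroup.map_eq_bot_iff_of_injective _ B.subtype_injective).mp h)
  set H := X ⊔ N
  obtain ⟨hHn, hHp⟩ := sup_sylow hA (htop A (Or.inl rfl)) P
  haveI := hHn
  have hYH : Y ≤ H := fun y hy => by
    obtain ⟨k, hk⟩ := IsPGroup.iff_orderOf.mp (Q.2.map B.subtype) ⟨y, hy⟩
    exact hHp y ⟨k, by rw [← hk, Subgroup.orderOf_mk]⟩
  have hXH : X ≤ H := le_sup_left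
  have hRH : ((R : Subgroup G) : Set G) ⊆ H := by
    rw [hR]
    rintro _ ⟨x, hx, y, hy, rfl⟩
    exact mul_mem (hXH hx) (hYH hy)
  -- Kegel's lemma in `H`
  obtain ⟨D, hD, hDtop, hXY⟩ := Cfsg.Agent.S0566.result (X.subgroupOf H) (Y.subgroupOf H)
    (fun h => hX1 ((Subgroup.subgroupOf_eq_bot.mp h).eq_bot_of_le hXH))
    (fun h => hY1 ((Subgroup.subgroupOf_eq_bot.mp h).eq_bot_of_le hYH)) fun h => by
    obtain ⟨a, ha, b, hb, e⟩ := hAB h
    refine ⟨((MulAut.conj a • (R : Subgroup G))).subgroupOf H, fun htop' => ?_, ?_⟩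
    · rw [Subgroup.subgroupOf_eq_top] at htop'
      have hp' : IsPGroup p ↥(MulAut.conj a • (R : Subgroup G)) :=
        R.2.of_equiv (Subgroup.equivSMul (MulAut.conj a) _)
      haveI := (hp'.to_le (le_sup_right.trans htop' : N ≤ _)).isNilpotent
      exact hNs inferInstance
    · ext u
      rw [SetLike.mem_coe, Subgroup.mem_subgroupOf, Subgroup.mem_pointwise_smul_iff_inv_smul_mem,
        ← SetLike.mem_coe, hR]
      constructor
      · rintro ⟨x, hx, y, hy, e'⟩
        simp only [MulAut.smul_def, MulAut.inv_apply, MulAut.conj_symm_apply] at e'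
        have hx' : a * x * a⁻¹ ∈ X :=
          conj_mem_of_normal_subgroupOf (Subgroup.map_subtype_le _) (normal_sylow_map hA P) ha hx
        have hy' : a * y * a⁻¹ ∈ H := hHn.conj_mem _ (hYH hy) a
        refine ⟨⟨a * x * a⁻¹, hXH hx'⟩, hx', ⟨a * y * a⁻¹, hy'⟩, ?_, Subtype.ext ?_⟩
        · rw [SetLike.mem_coe, Subgroup.mem_pointwise_smul_iff_inv_smul_mem, Subgroup.mem_subgroupOf]
          simp only [MulAut.smul_def, MulAut.inv_apply, MulAut.conj_symm_apply, Subgroup.coe_mul,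
            Subgroup.coe_inv, e]
          have := conj_mem_of_normal_subgroupOf (Subgroup.map_subtype_le _) (normal_sylow_map hB Q)
            (inv_mem hb) hy
          rw [inv_inv] at this
          convert this using 1
          group
        · show a * x * a⁻¹ * (a * y * a⁻¹) = u
          rw [show a * x * a⁻¹ * (a * y * a⁻¹) = a * (x * y) * a⁻¹ by group, e']
          group
      · rintro ⟨x, hx, y, hy, rfl⟩
        rw [SetLike.mem_coe, Subgroup.mem_pointwise_smul_iff_inv_smul_mem, Subgroup.mem_subgroupOf] at hy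
        simp only [MulAut.smul_def, MulAut.inv_apply, MulAut.conj_symm_apply, Subgroup.coe_mul,
          Subgroup.coe_inv, e] at hy
        have hy' := conj_mem_of_normal_subgroupOf (Subgroup.map_subtype_le _) (normal_sylow_map hB Q)
          hb hy
        refine ⟨a⁻¹ * (x : G) * a, ?_, a⁻¹ * (y : G) * a, ?_, ?_⟩
        · have := conj_mem_of_normal_subgroupOf (Subgroup.map_subtype_le _) (normal_sylow_map hA P)
            (inv_mem ha) hx
          rwa [inv_inv] at this
        · rw [SetLike.mem_coe]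
          convert hy' using 1
          group
        · simp [MulAut.smul_def, mul_assoc]
  haveI := hD
  set D' := D.map H.subtype
  have hD'H : D' ≤ H := Subgroup.map_subtype_le _
  have hD'n : H ≤ Subgroup.normalizer (D' : Set G) := by
    have := (Subgroup.normal_subgroupOf_iff_le_normalizer hD'H).mp (by
      rw [Subgroup.subgroupOf, Subgroup.comap_map_eq_self_of_injective H.subtype_injective]
      exact hD)
    exact this
  have hfull : ∀ (C : Subgroup G) (S : Sylow p C), Group.IsNilpotent C → C ⊔ N = ⊤ →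
      (S : Subgroup C).map C.subtype ≤ D' → ¬ N ≤ D' := by
    intro C S hC hCN hS hND
    refine hDtop (eq_top_iff.mpr fun u _ => ?_)
    obtain ⟨hn', hp'⟩ := sup_sylow hC hCN S
    haveI := hn'
    have hle : (S : Subgroup C).map C.subtype ⊔ N ≤ D' := sup_le hS hND
    have : H ≤ D' := sup_le (fun x hx => hle (hp' x ?_)) hND
    · obtain ⟨w, hw, e⟩ := this u.2
      exact H.subtype_injective e ▸ hw
    · obtain ⟨k, hk⟩ := IsPGroup.iff_orderOf.mp (P.2.map A.subtype) ⟨x, hx⟩
      exact ⟨k, by rw [← hk, Subgroup.orderOf_mk]⟩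
  rcases hXY with h | h
  · have hXD : X ≤ D' := fun x hx => ⟨⟨x, hXH hx⟩, h hx, rfl⟩
    exact hX1 (sylow_eq_bot (htop A (Or.inl rfl)) (Subgroup.map_subtype_le _) (normal_sylow_map hA P)
      hmin hN1 hNs le_sup_right hD'H hD'n hXD (hfull A P hA (htop A (Or.inl rfl)) hXD))
  · have hYD : Y ≤ D' := fun x hx => ⟨⟨x, hYH hx⟩, h hx, rfl⟩
    exact hY1 (sylow_eq_bot (htop B (Or.inr rfl)) (Subgroup.map_subtype_le _) (normal_sylow_map hB Q)
      hmin hN1 hNs le_sup_right hD'H hD'n hYD (hfull B Q hB (htop B (Or.inr rfl)) hYD))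

/-- **Kegel–Wielandt**: a finite product of two nilpotent subgroups is solvable. -/
theorem isSolvable_mul (A B : Subgroup G) (hA : Group.IsNilpotent A) (hB : Group.IsNilpotent B)
    (hAB : ∀ g : G, ∃ a ∈ A, ∃ b ∈ B, g = a * b) : Group.IsSolvable G :=
  isSolvable_mul_aux _ G rfl A B hA hB hAB

end CfsgLib.NilProduct
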