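import Cfsg.Agent.Lib.NilProduct.Final

/-!
# Wielandt: a product of nilpotent groups of coprime orders is solvable
-/

set_option autoImplicit false
set_option linter.style.haveILetI false

namespace CfsgLib.NilProduct

universe u

variable {G : Type u} [Group G]

theorem isNilpotent_subgroupOf {A : Subgroup G} (hA : Group.IsNilpotent A) (H : Subgroup G) :
    Group.IsNilpotent (A.subgroupOf H) :=
  haveI := hA
  (Group.isNilpotent_congr ((Subgroup.subgroupOfEquivOfLe inf_le_right).trans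
    ((MulEquiv.subgroupCongr (inf_comm H A)).trans
      ((Subgroup.subgroupOfEquivOfLe inf_le_right).symm.trans
        (MulEquiv.subgroupCongr (Subgroup.inf_subgroupOf_right A H)))))).mp
    (inferInstance : Group.IsNilpotent ↥((H ⊓ A).subgroupOf A))

theorem isNilpotent_map {A : Subgroup G} (hA : Group.IsNilpotent A) {K : Type*} [Group K]
    (f : G →* K) : Group.IsNilpotent (A.map f) :=
  haveI := hA
  Group.nilpotent_of_surjective (f.subgroupMap A) (f.subgroupMap_surjective A)

/-- A factorized subgroup, as a group with factorization. -/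
theorem exists_fac_subgroupOf {A B H : Subgroup G}
    (hf : ∀ g ∈ H, ∃ a ∈ H ⊓ A, ∃ b ∈ H ⊓ B, g = a * b) (g : H) :
    ∃ a ∈ A.subgroupOf H, ∃ b ∈ B.subgroupOf H, g = a * b := by
  obtain ⟨a, ha, b, hb, e⟩ := hf g g.2
  exact ⟨⟨a, ha.1⟩, ha.2, ⟨b, hb.1⟩, hb.2, Subtype.ext e⟩

/-- A quotient of a factorized group is factorized. -/
theorem exists_fac_map {A B : Subgroup G} (hf : ∀ g : G, ∃ a ∈ A, ∃ b ∈ B, g = a * b)
    (N : Subgroup G) [N.Normal] (y : G ⧸ N) :
    ∃ a ∈ A.map (QuotientGroup.mk' N), ∃ b ∈ B.map (QuotientGroup.mk' N), y = a * b := by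
  obtain ⟨g, rfl⟩ := QuotientGroup.mk'_surjective N y
  obtain ⟨a, ha, b, hb, rfl⟩ := hf g
  exact ⟨_, Subgroup.mem_map_of_mem _ ha, _, Subgroup.mem_map_of_mem _ hb, map_mul _ a b⟩

theorem card_quotient_lt [Finite G] {N : Subgroup G} (hN : N ≠ ⊥) : Nat.card (G ⧸ N) < Nat.card G := by
  rw [Subgroup.card_eq_card_quotient_mul_card_subgroup N]
  exact lt_mul_of_one_lt_right Nat.card_pos (N.one_lt_card_iff_ne_bot.mpr hN)

theorem isSolvable_of_normal [Finite G] (N : Subgroup G) [N.Normal] (hN : Group.IsSolvable N)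
    (hQ : Group.IsSolvable (G ⧸ N)) : Group.IsSolvable G :=
  haveI := hN; haveI := hQ
  solvable_of_ker_le_range N.subtype (QuotientGroup.mk' N)
    (by rw [QuotientGroup.ker_mk', Subgroup.range_subtype])

theorem card_lt_of_ne_top [Finite G] {H : Subgroup G} (h : H ≠ ⊤) : Nat.card H < Nat.card G :=
  lt_of_le_of_ne (Nat.le_of_dvd Nat.card_pos H.card_subgroup_dvd_card)
    fun e => h (Subgroup.eq_top_of_card_eq _ e)

theorem isSolvable_of_coprime_aux (n : ℕ) : ∀ (G : Type u) [Group G] [Finite G], Nat.card G = n →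
    ∀ A B : Subgroup G, Group.IsNilpotent A → Group.IsNilpotent B →
    (Nat.card A).Coprime (Nat.card B) → (∀ g : G, ∃ a ∈ A, ∃ b ∈ B, g = a * b) →
    Group.IsSolvable G := by
  induction n using Nat.strong_induction_on with
  | _ n IH =>
  intro G _ _ hn A B hA hB hcop hAB
  subst hn
  have hsub : ∀ H : Subgroup G, H ≠ ⊤ → (∀ g ∈ H, ∃ a ∈ H ⊓ A, ∃ b ∈ H ⊓ B, g = a * b) →
      Group.IsSolvable H := by
    intro H hH hf
    refine IH _ (card_lt_of_ne_top hH) H rfl _ _ (isNilpotent_subgroupOf hA H)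
      (isNilpotent_subgroupOf hB H) ?_ (exists_fac_subgroupOf hf)
    have hd : ∀ C : Subgroup G, Nat.card (C.subgroupOf H) ∣ Nat.card C := fun C => by
      rw [← Subgroup.card_map_of_injective (K := C.subgroupOf H) H.subtype_injective]
      exact Subgroup.card_dvd_of_le (by rintro _ ⟨x, hx, rfl⟩; exact hx)
    exact (hcop.coprime_dvd_left (hd A)).coprime_dvd_right (hd B)
  rcases subsingleton_or_nontrivial G with h | h
  · exact inferInstance
  by_cases hs : IsSimpleGroup G
  · by_contra hns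
    exact Setup.false (A := A) (B := B) ⟨hs, fun hc => hns
      (IsSimpleGroup.comm_iff_isSolvable.mp hc.is_comm.comm), hA, hB, hcop, hAB, hsub⟩
  obtain ⟨N, hN, hN1, hN2⟩ : ∃ N : Subgroup G, N.Normal ∧ N ≠ ⊥ ∧ N ≠ ⊤ := by
    by_contra hc
    exact hs ⟨fun N hN => by by_contra h'; push Not at h'; exact hc ⟨N, hN, h'.1, h'.2⟩⟩
  haveI := hN
  set f := QuotientGroup.mk' N
  refine isSolvable_of_normal N (hsub N hN2 fun g hg => ?_)
    (IH _ (card_quotient_lt hN1) _ rfl _ _ (isNilpotent_map hA f) (isNilpotent_map hB f)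
      ((hcop.coprime_dvd_left (A.card_map_dvd f)).coprime_dvd_right (B.card_map_dvd f))
      (exists_fac_map hAB N))
  obtain ⟨a, ha, b, hb, rfl⟩ := hAB g
  have h1 : f a = f b⁻¹ := by
    rw [map_inv]
    refine eq_inv_of_mul_eq_one_left ?_
    rw [← map_mul]
    exact (QuotientGroup.eq_one_iff _).mpr hg
  have haN : a ∈ N := (QuotientGroup.eq_one_iff _).mp (orderOf_eq_one_iff.mp
    (Nat.eq_one_of_dvd_coprimes hcop ((orderOf_map_dvd f a).trans (Subgroup.orderOf_dvd_natCard A ha))
      (by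
      show orderOf (f a) ∣ _
      rw [h1]
      exact (orderOf_map_dvd f _).trans (Subgroup.orderOf_dvd_natCard B (inv_mem hb)))))
  exact ⟨a, ⟨haN, ha⟩, b, ⟨by simpa using mul_mem (inv_mem haN) hg, hb⟩, rfl⟩

/-- **Wielandt**: a finite product of two nilpotent subgroups of coprime orders is solvable. -/
theorem isSolvable_of_coprime [Finite G] (A B : Subgroup G) (hA : Group.IsNilpotent A)
    (hB : Group.IsNilpotent B) (hcop : (Nat.card A).Coprime (Nat.card B))
    (hAB : ∀ g : G, ∃ a ∈ A, ∃ b ∈ B, g = a * b) : Group.IsSolvable G :=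
  isSolvable_of_coprime_aux _ G rfl A B hA hB hcop hAB

end CfsgLib.NilProduct
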