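import Cfsg.Agent.Lib.NilProduct.Key
import Cfsg.Agent.Lib.Coprime.Action

/-!
# Wielandt's theorem on products of nilpotent groups of coprime orders

The factors are TI subgroups, which is impossible by counting.
-/

set_option autoImplicit false
set_option linter.style.haveILetI false

open scoped Pointwise

namespace CfsgLib.NilProduct

variable {G : Type*} [Group G] [Finite G] {A B : Subgroup G}

/-- No nontrivial subgroup of order a power of a prime not dividing `|A|` is normalized by a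
nontrivial central element of `A`. -/
theorem Setup.eq_bot_of_normalized (s : Setup A B) {q : ℕ} [Fact q.Prime] {z : G} (hz : Central A z)
    (hz1 : z ≠ 1) {R : Subgroup G} (hR : IsPGroup q R) (hqA : ¬ q ∣ Nat.card A)
    (hn : z ∈ Subgroup.normalizer (R : Set G)) : R = ⊥ := by
  by_contra hR1
  have hqR : q ∣ Nat.card R :=
    hR.card_eq_or_dvd.resolve_left fun h => hR1 (Subgroup.card_eq_one.mp h)
  have hqB : q ∣ Nat.card B := by
    have := hqR.trans R.card_subgroup_dvd_card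
    rw [← s.card_mul] at this
    exact ((Fact.out : q.Prime).dvd_mul.mp this).resolve_left hqA
  obtain ⟨P, hP⟩ := s.symm.part_eq_sylow hqB
  obtain ⟨Q, hQ⟩ := hR.exists_le_sylow
  obtain ⟨g, hg⟩ := MulAction.exists_smul_eq G P Q
  obtain ⟨w, hw, hwo⟩ := s.symm.exists_central hqB
  refine s.normalizer_ne_top hR1 (s.ne_top_of_isPGroup hR)
    (s.eq_top_of_conj (g := 1) (h := g) hz hz1 hw (ne_one_of_orderOf_prime hwo) (by simpa using hn) ?_)
  refine mem_normalizer_of_forall_commute fun x hx => ?_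
  have h1 := hQ hx
  rw [← hg, Sylow.coe_subgroup_smul, Subgroup.mem_pointwise_smul_iff_inv_smul_mem, hP] at h1
  simp only [MulAut.smul_def, MulAut.inv_apply, MulAut.conj_symm_apply] at h1
  have h2 := hw.2 _ (part_le q h1)
  calc g * w * g⁻¹ * x = g * (w * (g⁻¹ * x * g)) * g⁻¹ := by group
    _ = g * (g⁻¹ * x * g * w) * g⁻¹ := by rw [h2]
    _ = x * (g * w * g⁻¹) := by group

/-- The centralizer of a nontrivial central element of a factor is that factor. -/
theorem Setup.centralizer_le (s : Setup A B) {z : G} (hz : Central A z) (hz1 : z ≠ 1) :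
    Subgroup.centralizer ({z} : Set G) ≤ A := by
  intro g hg
  obtain ⟨a, ha, b, hb, rfl⟩ := s.prod g
  have hbC : b ∈ Subgroup.centralizer ({z} : Set G) := by
    simpa using mul_mem (inv_mem (hz.le_centralizer ha)) hg
  have hb1 : b = 1 := by
    by_contra hb1
    obtain ⟨q, hq, -, k, hk⟩ := exists_pow_prime_order hb1
    haveI := Fact.mk hq
    have hqA : ¬ q ∣ Nat.card A :=
      not_dvd_of_coprime s.cop.symm hq (hk ▸ Subgroup.orderOf_dvd_natCard B (pow_mem hb k))
    have := s.eq_bot_of_normalized hz hz1 (isPGroup_zpowers hk) hqA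
      (mem_normalizer_of_forall_commute fun x hx => by
        obtain ⟨i, rfl⟩ := Subgroup.mem_zpowers_iff.mp hx
        exact ((show Commute z (b ^ k) from
          (show Commute z b from (Subgroup.mem_centralizer_singleton_iff.mp hbC).symm).pow_right k).zpow_right i).eq)
    exact ne_one_of_orderOf_prime hk (Subgroup.zpowers_eq_bot.mp this)
  rw [hb1, mul_one]
  exact ha

theorem inf_normalizer_le_normalizer_sup (H K : Subgroup G) :
    Subgroup.normalizer (H : Set G) ⊓ Subgroup.normalizer (K : Set G) ≤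
      Subgroup.normalizer ((H ⊔ K : Subgroup G) : Set G) := by
  have key : ∀ g ∈ Subgroup.normalizer (H : Set G) ⊓ Subgroup.normalizer (K : Set G),
      ∀ x ∈ H ⊔ K, g * x * g⁻¹ ∈ H ⊔ K := by
    intro g hg x hx
    have h1 : H ⊔ K ≤ (H ⊔ K).comap (MulAut.conj g).toMonoidHom :=
      sup_le (fun y hy => Subgroup.mem_sup_left ((Subgroup.mem_normalizer_iff.mp hg.1 y).mp hy))
        (fun y hy => Subgroup.mem_sup_right ((Subgroup.mem_normalizer_iff.mp hg.2 y).mp hy))
    exact h1 hx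
  intro g hg
  refine Subgroup.mem_normalizer_iff.mpr fun x => ⟨key g hg x, fun hx => ?_⟩
  simpa [mul_assoc] using key g⁻¹ (inv_mem hg) _ hx

theorem Setup.big_le_normalizer (s : Setup A B) : s.big ≤ Subgroup.normalizer (A : Set G) := by
  obtain ⟨p, hp, hpA⟩ := exists_prime_orderOf s.A_ne_bot
  haveI := Fact.mk hp
  obtain ⟨r, hr, hrp, hrA⟩ := s.exists_other_prime p
  haveI := Fact.mk hr
  set C : ℕ → Subgroup G := fun q =>
    s.big ⊓ Subgroup.centralizer (Cfsg.pCoreOf q s.big : Set G) with hC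
  have hCA : ∀ (q : ℕ) [Fact q.Prime], q ∣ Nat.card A → C q ≤ A := by
    intro q _ hq x hx
    obtain ⟨z, hz, hzo⟩ := s.exists_central hq
    refine s.centralizer_le hz (ne_one_of_orderOf_prime hzo)
      (Subgroup.mem_centralizer_singleton_iff.mpr ?_)
    exact (Subgroup.mem_centralizer_iff.mp hx.2 z (s.central_mem_core hz hzo s.big_ne_top s.le_big)).symm
  have hCn : ∀ q, s.big ≤ Subgroup.normalizer (C q : Set G) := fun q =>
    (le_inf Subgroup.le_normalizer
      ((CfsgLib.Signalizer.normalizer_le_normalizer_pCoreOf q Subgroup.le_normalizer).trans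
        (normalizer_le_normalizer_centralizer _))).trans Subgroup.inf_normalizer_le_normalizer_inf
  have hpart : ∀ (t q : ℕ) [Fact t.Prime] [Fact q.Prime], t ≠ q → q ∣ Nat.card A → part t A ≤ C q :=
    fun t q _ _ htq hq x hx => ⟨s.le_big (part_le t hx), Subgroup.mem_centralizer_iff.mpr fun y hy =>
      s.commute_part htq.symm (s.core_le_part hq s.le_big hy) hx⟩
  have hA : A = C p ⊔ C r := by
    refine le_antisymm (s.le_of_forall_part fun t ht _ => ?_) (sup_le (hCA p hpA) (hCA r hrA))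
    haveI := Fact.mk ht
    by_cases htp : t = p
    · exact le_sup_of_le_right (hpart t r (htp ▸ hrp.symm) hrA)
    · exact le_sup_of_le_left (hpart t p htp hpA)
  exact ((le_inf (hCn p) (hCn r)).trans (inf_normalizer_le_normalizer_sup _ _)).trans_eq
    (congrArg (fun K : Subgroup G => Subgroup.normalizer (K : Set G)) hA.symm)

theorem Setup.mem_of_big (s : Setup A B) {x : G} (hx : x ∈ s.big)
    (hord : (orderOf x).Coprime (Nat.card B)) : x ∈ A := by
  have hn : Subgroup.zpowers x ≤ Subgroup.normalizer (A : Set G) :=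
    (Subgroup.zpowers_le.mpr hx).trans s.big_le_normalizer
  set T := A ⊔ Subgroup.zpowers x
  have hcard : Nat.card T ∣ Nat.card A * orderOf x := by
    have e1 := Subgroup.relIndex_mul_relIndex ⊥ A T bot_le le_sup_left
    rw [Subgroup.relIndex_bot_left, Subgroup.relIndex_bot_left] at e1
    rw [← e1]
    refine mul_dvd_mul_left _ ?_
    haveI : (A.subgroupOf T).Normal := (Subgroup.normal_subgroupOf_iff_le_normalizer le_sup_left).mpr
      (sup_le Subgroup.le_normalizer hn)
    set f := QuotientGroup.mk' (A.subgroupOf T)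
    have hx' : x ∈ T := Subgroup.mem_sup_right (Subgroup.mem_zpowers x)
    have hgen : ∀ y : T ⧸ A.subgroupOf T, y ∈ Subgroup.zpowers (f ⟨x, hx'⟩) := by
      intro y
      obtain ⟨⟨u, hu⟩, rfl⟩ := QuotientGroup.mk'_surjective (A.subgroupOf T) y
      have hu' : u ∈ (A : Set G) * (Subgroup.zpowers x : Set G) := by
        rw [← Subgroup.coe_mul_of_right_le_normalizer_left A _ hn]; exact hu
      obtain ⟨a, ha, _, ⟨i, rfl⟩, rfl⟩ := hu'
      refine ⟨i, ?_⟩
      show f ⟨x, hx'⟩ ^ i = f _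
      rw [← map_zpow]
      refine QuotientGroup.eq.mpr (Subgroup.mem_subgroupOf.mpr ?_)
      have h1 := (Subgroup.mem_normalizer_iff.mp
        (hn (inv_mem (zpow_mem (Subgroup.mem_zpowers x) i))) a).mp ha
      simpa [mul_assoc] using h1
    show (A.subgroupOf T).index ∣ orderOf x
    rw [Subgroup.index_eq_card, ← orderOf_eq_card_of_forall_mem_zpowers hgen]
    exact (orderOf_map_dvd f _).trans (by rw [Subgroup.orderOf_mk])
  have hdvd : Nat.card T ∣ Nat.card A :=
    ((Nat.Coprime.mul_left s.cop hord).coprime_dvd_left hcard).dvd_of_dvd_mul_right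
      (s.card_mul ▸ T.card_subgroup_dvd_card)
  have hTA : A = T := Subgroup.eq_of_le_of_card_ge le_sup_left (Nat.le_of_dvd Nat.card_pos hdvd)
  exact hTA ▸ Subgroup.mem_sup_right (Subgroup.mem_zpowers x)

theorem Setup.big_ne_of_central (s : Setup A B) {p : ℕ} [Fact p.Prime] {z g : G} (hz : Central A z)
    (hzo : orderOf z = p) (h : g * z * g⁻¹ ∈ s.big) : g ∈ s.big := by
  have hpA : p ∣ Nat.card A := hzo ▸ Subgroup.orderOf_dvd_natCard A hz.1
  have hzo' : orderOf (g * z * g⁻¹) = p := by rw [CfsgLib.Transfer.orderOf_conj, hzo]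
  have hA' : g * z * g⁻¹ ∈ A := s.mem_of_big h (by
    rw [hzo']
    exact (Fact.out : p.Prime).coprime_iff_not_dvd.mpr (not_dvd_of_coprime s.cop Fact.out hpA))
  obtain ⟨r, hr, hrp, hrA⟩ := s.exists_other_prime p
  haveI := Fact.mk hr
  have := s.mem_big_of_conj_part hrA (g := g⁻¹) fun x hx =>
    s.le_big (s.centralizer_le hz (ne_one_of_orderOf_prime hzo)
      (Subgroup.mem_centralizer_singleton_iff.mpr (by
        have h1 := s.commute_part hrp.symm (s.mem_part hA' hzo') hx
        calc g⁻¹ * x * g⁻¹⁻¹ * z = g⁻¹ * (x * (g * z * g⁻¹)) * g := by group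
          _ = g⁻¹ * ((g * z * g⁻¹) * x) * g := by rw [h1]
          _ = z * (g⁻¹ * x * g⁻¹⁻¹) := by group)))
  simpa using inv_mem this

/-- A `p`-subgroup containing a central element of order `p` of `A` lies in `A`. -/
theorem Setup.le_of_central_mem (s : Setup A B) {p : ℕ} [Fact p.Prime] {P : Subgroup G}
    (hP : IsPGroup p P) {z : G} (hz : Central A z) (hzo : orderOf z = p) (hzP : z ∈ P) : P ≤ A := by
  obtain ⟨S, hS⟩ := s.part_eq_sylow (hzo ▸ Subgroup.orderOf_dvd_natCard A hz.1)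
  obtain ⟨Q, hQ⟩ := hP.exists_le_sylow
  obtain ⟨g, hg⟩ := MulAction.exists_smul_eq G S Q
  have hmem : ∀ x ∈ P, g⁻¹ * x * g ∈ part p A := fun x hx => by
    have h1 := hQ hx
    rw [← hg, Sylow.coe_subgroup_smul, Subgroup.mem_pointwise_smul_iff_inv_smul_mem, hS] at h1
    simpa [MulAut.smul_def] using h1
  have hgM : g⁻¹ ∈ s.big :=
    s.big_ne_of_central hz hzo (by simpa using s.le_big (part_le p (hmem z hzP)))
  have hgA := s.big_le_normalizer (inv_mem hgM)
  rw [inv_inv] at hgA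
  intro x hx
  have h1 := (Subgroup.mem_normalizer_iff.mp hgA _).mp (part_le p (hmem x hx))
  simpa [mul_assoc] using h1

/-- The centralizer of a nontrivial element of `B` in the maximal subgroup over `A` lies in the
maximal subgroup over `B`. -/
theorem Setup.centralizer_le_symm_big (s : Setup A B) {b : G} (hbM : b ∈ s.big) (hbB : b ∈ B)
    (hb1 : b ≠ 1) : Subgroup.centralizer ({b} : Set G) ≤ s.symm.big := by
  set C := Subgroup.centralizer ({b} : Set G)
  have hf : ∀ g ∈ C, ∃ b' ∈ C ⊓ B, ∃ a ∈ C ⊓ A, g = b' * a := by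
    intro g hg
    obtain ⟨β, hβ, α, hα, rfl⟩ := s.prod' g
    have h0 : β * α * b = b * (β * α) := Subgroup.mem_centralizer_singleton_iff.mp hg
    have h1 : α * b * α⁻¹ * b⁻¹ ∈ A := by
      have := (Subgroup.mem_normalizer_iff.mp (s.big_le_normalizer hbM) α⁻¹).mp (inv_mem hα)
      simpa [mul_assoc] using mul_mem hα this
    have h2 : α * b * α⁻¹ * b⁻¹ ∈ B := by
      have : α * b * α⁻¹ = β⁻¹ * b * β := by
        calc α * b * α⁻¹ = β⁻¹ * (β * α * b) * α⁻¹ := by group
          _ = β⁻¹ * b * β := by rw [h0]; group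
      rw [this]
      exact mul_mem (mul_mem (mul_mem (inv_mem hβ) hbB) hβ) (inv_mem hbB)
    have h3 := s.eq_one_of_mem h1 h2
    have hαC : α ∈ C := Subgroup.mem_centralizer_singleton_iff.mpr (by
      calc α * b = α * b * α⁻¹ * b⁻¹ * (b * α) := by group
        _ = b * α := by rw [h3, one_mul])
    exact ⟨β, ⟨by simpa using mul_mem hg (inv_mem hαC), hβ⟩, α, ⟨hαC, hα⟩, rfl⟩
  have hC : C ≠ ⊤ := s.centralizer_ne_top hb1
  have hsolv : Group.IsSolvable C := s.symm.solv C hC hf
  obtain ⟨q, hq, hqB⟩ := exists_prime_orderOf s.symm.A_ne_bot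
  haveI := Fact.mk hq
  obtain ⟨w, hw, hwo⟩ := s.symm.exists_central hqB
  have hwC : w ∈ C := Subgroup.mem_centralizer_singleton_iff.mpr (hw.2 b hbB).symm
  have hn : ∀ t, C ≤ Subgroup.normalizer (Cfsg.pCoreOf t C : Set G) := fun t =>
    CfsgLib.Signalizer.normalizer_le_normalizer_pCoreOf t Subgroup.le_normalizer
  have hcore : ∀ (t : ℕ) [Fact t.Prime], t ∣ Nat.card A → Cfsg.pCoreOf t C = ⊥ := fun t _ ht =>
    s.symm.eq_bot_of_normalized hw (ne_one_of_orderOf_prime hwo) (part_isPGroup t)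
      (not_dvd_of_coprime s.cop Fact.out ht) (hn t hwC)
  have hleB : ∀ (t : ℕ) [Fact t.Prime], Cfsg.pCoreOf t C ≤ B := by
    intro t _
    by_cases ht : t ∣ Nat.card A
    · rw [hcore t ht]; exact bot_le
    intro r hr
    obtain ⟨β, hβ, α, hα, e⟩ := hf r (part_le (A := C) t hr)
    have hαR : α ∈ Cfsg.pCoreOf t C := by
      have := s.mem_of_mul_mem (part_le (A := C) t) (hn t) (inv_mem hα.1) (inv_mem hα.2)
        (inv_mem hβ.1) (inv_mem hβ.2) (by rw [← mul_inv_rev, ← e]; exact inv_mem hr)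
      simpa using this
    obtain ⟨n, hn'⟩ := IsPGroup.iff_card.mp (part_isPGroup (A := C) t)
    have hα1 : α = 1 := orderOf_eq_one_iff.mp <| Nat.eq_one_of_dvd_coprimes
      (((Fact.out : t.Prime).coprime_iff_not_dvd.mpr ht).pow_left n)
      (hn' ▸ Subgroup.orderOf_dvd_natCard _ hαR) (Subgroup.orderOf_dvd_natCard A hα.2)
    rw [e, hα1, mul_one]
    exact hβ.2
  have hwS : w ∈ Cfsg.pCoreOf q C := by
    refine CfsgLib.Signalizer.le_pCoreOf_of_centralizes hsolv (Subgroup.zpowers_le.mpr hwC)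
      (isPGroup_zpowers hwo) (fun v hv => ?_) (Subgroup.mem_zpowers w)
    haveI := Fact.mk hv
    rw [Subgroup.zpowers_le, Subgroup.mem_centralizer_iff]
    exact fun x hx => hw.2 x (hleB v hx)
  exact (hn q).trans (s.symm.normalizer_le_big (hleB q) (part_isPGroup q) hwS hw
    (ne_one_of_orderOf_prime hwo))

/-- Every nontrivial element of `A` has its centralizer in the maximal subgroup. -/
theorem Setup.centralizer_le_of_mem (s : Setup A B) {d : G} (hd : d ∈ A) (hd1 : d ≠ 1) :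
    Subgroup.centralizer ({d} : Set G) ≤ s.big := by
  by_cases hex : ∃ y ∈ s.big, y * d = d * y ∧ y ≠ 1 ∧ (orderOf y).Coprime (Nat.card A)
  · obtain ⟨y, hyM, hyd, hy1, hyo⟩ := hex
    obtain ⟨q, hq, hqy, k, hk⟩ := exists_pow_prime_order hy1
    haveI := Fact.mk hq
    set b := y ^ k
    have hbd : b * d = d * b := (show Commute y d from hyd).pow_left k
    have hbM : b ∈ s.big := pow_mem hyM k
    have hqA : ¬ q ∣ Nat.card A := not_dvd_of_coprime hyo hq hqy
    have hqB : q ∣ Nat.card B := by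
      have : q ∣ Nat.card G := hk ▸ orderOf_dvd_natCard b
      rw [← s.card_mul] at this
      exact (hq.dvd_mul.mp this).resolve_left hqA
    obtain ⟨P, hP⟩ := s.symm.part_eq_sylow hqB
    obtain ⟨Q, hQ⟩ := (isPGroup_zpowers hk).exists_le_sylow
    obtain ⟨g, hg⟩ := MulAction.exists_smul_eq G P Q
    obtain ⟨α, hα, β, hβ, rfl⟩ := s.prod g
    have h1 := hQ (Subgroup.mem_zpowers b)
    rw [← hg, Sylow.coe_subgroup_smul, Subgroup.mem_pointwise_smul_iff_inv_smul_mem, hP] at h1
    simp only [MulAut.smul_def, MulAut.inv_apply, MulAut.conj_symm_apply] at h1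
    have hb0 : α⁻¹ * b * α ∈ B := by
      simpa [mul_assoc] using mul_mem (mul_mem hβ (part_le q h1)) (inv_mem hβ)
    have hb0M : α⁻¹ * b * α ∈ s.big :=
      mul_mem (mul_mem (inv_mem (s.le_big hα)) hbM) (s.le_big hα)
    have hb01 : α⁻¹ * b * α ≠ 1 := fun h => ne_one_of_orderOf_prime hk (by
      simpa [mul_assoc] using congrArg (fun u => α * u * α⁻¹) h)
    have hd0 : α⁻¹ * d * α ∈ Subgroup.centralizer ({α⁻¹ * b * α} : Set G) :=
      Subgroup.mem_centralizer_singleton_iff.mpr (by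
        calc α⁻¹ * d * α * (α⁻¹ * b * α) = α⁻¹ * (d * b) * α := by group
          _ = α⁻¹ * (b * d) * α := by rw [hbd]
          _ = α⁻¹ * b * α * (α⁻¹ * d * α) := by group)
    have hd0A : α⁻¹ * d * α ∈ A := mul_mem (mul_mem (inv_mem hα) hd) hα
    have hd01 : α⁻¹ * d * α ≠ 1 := fun h => hd1 (by
      simpa [mul_assoc] using congrArg (fun u => α * u * α⁻¹) h)
    have hle := s.symm.centralizer_le_symm_big (s.centralizer_le_symm_big hb0M hb0 hb01 hd0) hd0A hd01
    intro x hx
    have h2 : α⁻¹ * x * α ∈ Subgroup.centralizer ({α⁻¹ * d * α} : Set G) :=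
      Subgroup.mem_centralizer_singleton_iff.mpr (by
        calc α⁻¹ * x * α * (α⁻¹ * d * α) = α⁻¹ * (x * d) * α := by group
          _ = α⁻¹ * (d * x) * α := by rw [Subgroup.mem_centralizer_singleton_iff.mp hx]
          _ = α⁻¹ * d * α * (α⁻¹ * x * α) := by group)
    simpa [mul_assoc] using mul_mem (mul_mem (s.le_big hα) (hle h2)) (inv_mem (s.le_big hα))
  push Not at hex
  set H := Subgroup.centralizer ({d} : Set G) with hH
  have hHM : ∀ x ∈ H, x ∈ s.big → x ∈ A := by
    intro x hx hxM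
    refine s.mem_of_big hxM (s.cop.coprime_dvd_left ?_)
    rw [orderOf_dvd_iff_pow_eq_one]
    by_contra h
    refine hex _ (pow_mem hxM (Nat.card A))
      (Commute.pow_left (Subgroup.mem_centralizer_singleton_iff.mp hx) _) h ?_
    refine s.cop.symm.coprime_dvd_left (orderOf_dvd_of_pow_eq_one ?_)
    rw [← pow_mul, s.card_mul, pow_card_eq_one']
  set A₀ := A.subgroupOf H
  haveI : Group.IsNilpotent A₀ := by
    haveI := s.nilA
    haveI : Group.IsNilpotent ↥((H ⊓ A).subgroupOf A) := inferInstance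
    refine (Group.isNilpotent_congr ?_).mp (inferInstance : Group.IsNilpotent ↥((H ⊓ A).subgroupOf A))
    exact (Subgroup.subgroupOfEquivOfLe inf_le_right).trans
      ((MulEquiv.subgroupCongr (inf_comm H A)).trans
        ((Subgroup.subgroupOfEquivOfLe inf_le_right).symm.trans
          (MulEquiv.subgroupCongr (Subgroup.inf_subgroupOf_right A H))))
  have hcent : ∀ (t : ℕ) [Fact t.Prime], t ∣ Nat.card A → ∃ z, Central A z ∧ orderOf z = t ∧ z ∈ H := by
    intro t _ ht
    obtain ⟨z, hz, hzo⟩ := s.exists_central ht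
    exact ⟨z, hz, hzo, Subgroup.mem_centralizer_singleton_iff.mpr (hz.2 d hd).symm⟩
  have hcardA : Nat.card A₀ ∣ Nat.card A := by
    rw [← Subgroup.card_map_of_injective (K := A₀) H.subtype_injective]
    exact Subgroup.card_dvd_of_le (by rintro _ ⟨x, hx, rfl⟩; exact hx)
  have hHall : (Nat.card A₀).Coprime A₀.index := by
    refine Nat.coprime_of_dvd fun t ht htA hti => ?_
    haveI := Fact.mk ht
    obtain ⟨z, hz, hzo, hzH⟩ := hcent t (htA.trans hcardA)
    have hzH' : orderOf (⟨z, hzH⟩ : H) = t := by rw [Subgroup.orderOf_mk, hzo]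
    obtain ⟨Q, hQ⟩ := (isPGroup_zpowers hzH').exists_le_sylow
    refine Q.not_dvd_index (hti.trans (Subgroup.index_dvd_of_le fun x hx => ?_))
    exact Subgroup.mem_subgroupOf.mpr (s.le_of_central_mem (Q.2.map H.subtype) hz hzo
      ⟨_, hQ (Subgroup.mem_zpowers _), rfl⟩ ⟨x, hx, rfl⟩)
  obtain ⟨N, hN, hcomp⟩ := CfsgLib.Transfer.exists_normal_complement_of_no_fusion A₀ hHall
    fun x hx h hhx => by
    obtain ⟨t, ht, htA⟩ := exists_prime_orderOf s.A_ne_bot
    haveI := Fact.mk ht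
    obtain ⟨z, hz, hzo, hzH⟩ := hcent t htA
    set y := h * x * h⁻¹
    have hzx : (⟨z, hzH⟩ : H) * x = x * ⟨z, hzH⟩ :=
      Subtype.ext (hz.2 x (Subgroup.mem_subgroupOf.mp hx)).symm
    have hzy : (⟨z, hzH⟩ : H) ∈ Subgroup.centralizer ({y} : Set H) :=
      Subgroup.mem_centralizer_singleton_iff.mpr
        (Subtype.ext (hz.2 y (Subgroup.mem_subgroupOf.mp hhx)).symm)
    set C := Subgroup.centralizer ({y} : Set H)
    have hz'y : h * ⟨z, hzH⟩ * h⁻¹ ∈ C := Subgroup.mem_centralizer_singleton_iff.mpr (by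
      calc h * ⟨z, hzH⟩ * h⁻¹ * (h * x * h⁻¹) = h * (⟨z, hzH⟩ * x) * h⁻¹ := by group
        _ = h * (x * ⟨z, hzH⟩) * h⁻¹ := by rw [hzx]
        _ = h * x * h⁻¹ * (h * ⟨z, hzH⟩ * h⁻¹) := by group)
    have o1 : orderOf (⟨⟨z, hzH⟩, hzy⟩ : C) = t := by rw [Subgroup.orderOf_mk, Subgroup.orderOf_mk, hzo]
    have o2 : orderOf (⟨h * ⟨z, hzH⟩ * h⁻¹, hz'y⟩ : C) = t := by
      rw [Subgroup.orderOf_mk, CfsgLib.Transfer.orderOf_conj, Subgroup.orderOf_mk, hzo]
    obtain ⟨T, hT⟩ := (isPGroup_zpowers o1).exists_le_sylow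
    obtain ⟨T₀, hT₀⟩ := (isPGroup_zpowers o2).exists_le_sylow
    obtain ⟨c, hc⟩ := MulAction.exists_smul_eq C T₀ T
    have h3 : c * ⟨h * ⟨z, hzH⟩ * h⁻¹, hz'y⟩ * c⁻¹ ∈ (T : Subgroup C) := by
      rw [← hc, Sylow.coe_subgroup_smul, Subgroup.mem_pointwise_smul_iff_inv_smul_mem]
      simpa [MulAut.smul_def, mul_assoc] using hT₀ (Subgroup.mem_zpowers _)
    have h4 := s.le_of_central_mem ((T.2.map C.subtype).map H.subtype) hz hzo
      ⟨_, ⟨_, hT (Subgroup.mem_zpowers _), rfl⟩, rfl⟩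
      (x := (((c * ⟨h * ⟨z, hzH⟩ * h⁻¹, hz'y⟩ * c⁻¹ : C) : H) : G)) ⟨_, ⟨_, h3, rfl⟩, rfl⟩
    have h5 : ((c : H) : G) * (h : G) ∈ s.big :=
      s.big_ne_of_central hz hzo (by simpa [mul_assoc] using s.le_big h4)
    have h6 : ((c : H) * h : H) ∈ A₀ := Subgroup.mem_subgroupOf.mpr (hHM _ ((c : H) * h).2 h5)
    refine ⟨(c : H) * h, h6, ?_⟩
    have hcy : (c : H) * y = y * c := Subgroup.mem_centralizer_singleton_iff.mp c.2
    calc (c : H) * h * x * ((c : H) * h)⁻¹ = (c : H) * y * (c : H)⁻¹ := by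
          simp only [y, mul_inv_rev, mul_assoc]
      _ = y := by rw [hcy, mul_inv_cancel_right]
  haveI := hN
  have hNcard : (Nat.card N).Coprime (Nat.card A₀) := by
    rw [← hcomp.index_eq_card] at *
    exact hHall.symm
  have hN1 : N = ⊥ := by
    by_contra hN1
    obtain ⟨q, hq, hqN⟩ := exists_prime_orderOf hN1
    haveI := Fact.mk hq
    obtain ⟨t, ht, htA⟩ := exists_prime_orderOf s.A_ne_bot
    haveI := Fact.mk ht
    obtain ⟨z, hz, hzo, hzH⟩ := hcent t htA
    have hqA : ¬ q ∣ Nat.card A := fun hqA => by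
      obtain ⟨z', hz', hzo', hzH'⟩ := hcent q hqA
      refine not_dvd_of_coprime hNcard hq hqN ?_
      have : orderOf (⟨z', hzH'⟩ : H) ∣ Nat.card A₀ :=
        Subgroup.orderOf_dvd_natCard A₀ (Subgroup.mem_subgroupOf.mpr hz'.1)
      rwa [Subgroup.orderOf_mk, hzo'] at this
    have hzA₀ : (⟨z, hzH⟩ : H) ∈ A₀ := Subgroup.mem_subgroupOf.mpr hz.1
    obtain ⟨R, hR⟩ := CfsgLib.Coprime.exists_invariant_sylow
      (A := Subgroup.zpowers (⟨z, hzH⟩ : H)) (K := N)
      ((le_top).trans (Subgroup.normalizer_eq_top_iff.mpr hN).ge)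
      ((hNcard.coprime_dvd_right (Subgroup.card_dvd_of_le (Subgroup.zpowers_le.mpr hzA₀))).symm)
      (Or.inl inferInstance) q
    have h7 := Subgroup.mem_normalizer_iff.mp (hR (Subgroup.mem_zpowers _))
    have h8 : z ∈ Subgroup.normalizer ((((R : Subgroup N).map N.subtype).map H.subtype : Subgroup G) : Set G) := by
      refine Subgroup.mem_normalizer_iff.mpr fun x => ⟨?_, fun hx => ?_⟩
      · rintro ⟨u, hu, rfl⟩
        exact ⟨_, (h7 u).mp hu, rfl⟩
      · obtain ⟨u, hu, e⟩ := hx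
        refine ⟨(⟨z, hzH⟩ : H)⁻¹ * u * ⟨z, hzH⟩, (h7 _).mpr ?_, ?_⟩
        · rw [show (⟨z, hzH⟩ : H) * ((⟨z, hzH⟩ : H)⁻¹ * u * ⟨z, hzH⟩) * (⟨z, hzH⟩ : H)⁻¹ = u by group]
          exact hu
        simp only [Subgroup.coe_subtype, Subgroup.coe_mul, Subgroup.coe_inv] at e ⊢
        rw [e]; group
    have h9 := s.eq_bot_of_normalized hz (ne_one_of_orderOf_prime hzo) ((R.2.map _).map _) hqA h8
    rw [Subgroup.map_eq_bot_iff_of_injective _ H.subtype_injective,
      Subgroup.map_eq_bot_iff_of_injective _ N.subtype_injective] at h9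
    exact R.ne_bot_of_dvd_card hqN h9
  intro x hx
  refine s.le_big (Subgroup.mem_subgroupOf.mp (show (⟨x, hx⟩ : H) ∈ A₀ from ?_))
  rw [hN1, Subgroup.isComplement'_bot_left] at hcomp
  rw [hcomp]
  exact Subgroup.mem_top _

theorem Setup.eq_one_of_conj_mem (s : Setup A B) {g x : G} (hg : g ∉ s.big) (hx : x ∈ A)
    (hxg : g⁻¹ * x * g ∈ A) : x = 1 := by
  by_contra hx1
  obtain ⟨p, hp, hpA⟩ := exists_prime_orderOf s.A_ne_bot
  haveI := Fact.mk hp
  obtain ⟨z, hz, hzo⟩ := s.exists_central hpA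
  refine hg (s.big_ne_of_central hz hzo (s.centralizer_le_of_mem hx hx1
    (Subgroup.mem_centralizer_singleton_iff.mpr ?_)))
  calc g * z * g⁻¹ * x = g * (z * (g⁻¹ * x * g)) * g⁻¹ := by group
    _ = g * (g⁻¹ * x * g * z) * g⁻¹ := by rw [hz.2 _ hxg]
    _ = x * (g * z * g⁻¹) := by group

theorem Setup.card_le (s : Setup A B) : Nat.card A ≤ Nat.card B := by
  obtain ⟨g, hg⟩ : ∃ g, g ∉ s.big := by
    by_contra h
    push Not at h
    exact s.big_ne_top (eq_top_iff.mpr fun g _ => h g)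
  have h := Nat.card_le_card_of_injective (fun x : A × A => (x.1 : G) * g * x.2)
    (fun x y hxy => ?_)
  · rw [Nat.card_prod, ← s.card_mul] at h
    exact Nat.le_of_mul_le_mul_left h Nat.card_pos
  · simp only at hxy
    have h2 : g⁻¹ * ((x.1 : G)⁻¹ * y.1) * g = (x.2 : G) * (y.2 : G)⁻¹ := by
      calc g⁻¹ * ((x.1 : G)⁻¹ * y.1) * g = g⁻¹ * (x.1 : G)⁻¹ * ((y.1 : G) * g * y.2) * (y.2 : G)⁻¹ := by group
        _ = g⁻¹ * (x.1 : G)⁻¹ * ((x.1 : G) * g * x.2) * (y.2 : G)⁻¹ := by rw [hxy]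
        _ = _ := by group
    have h3 := s.eq_one_of_conj_mem hg (mul_mem (inv_mem x.1.2) y.1.2)
      (h2 ▸ mul_mem x.2.2 (inv_mem y.2.2))
    have h4 : (x.1 : G) = y.1 := inv_mul_eq_one.mp h3
    rw [h4] at hxy
    exact Prod.ext (Subtype.ext h4) (Subtype.ext (mul_left_cancel hxy))

theorem Setup.false (s : Setup A B) : False := by
  have h := le_antisymm s.card_le s.symm.card_le
  have h1 := s.cop
  rw [← h, Nat.coprime_self] at h1
  exact s.A_ne_bot (Subgroup.card_eq_one.mp h1)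

end CfsgLib.NilProduct
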