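import Cfsg.Agent.Lib.NilProduct.Maximal
import Cfsg.Agent.S0561
import Cfsg.Agent.S0562

/-!
# No proper subgroup meets the centres of both factors
-/

set_option autoImplicit false
set_option linter.style.haveILetI false

open scoped Pointwise

namespace CfsgLib.NilProduct

variable {G : Type*} [Group G] [Finite G] {A B : Subgroup G}

theorem Setup.coprime_index_part (s : Setup A B) {p : ℕ} [Fact p.Prime] (hpA : p ∣ Nat.card A)
    {N : Subgroup G} (hf : ∀ g ∈ N, ∃ a ∈ N ⊓ A, ∃ b ∈ N ⊓ B, g = a * b) :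
    (Nat.card ((N ⊓ part p A).subgroupOf N)).Coprime ((N ⊓ part p A).subgroupOf N).index := by
  have hp : p.Prime := Fact.out
  have hP : IsPGroup p ((N ⊓ part p A).subgroupOf N) :=
    ((part_isPGroup p).to_le inf_le_right).comap_of_injective _ N.subtype_injective
  obtain ⟨n, hn⟩ := IsPGroup.iff_card.mp hP
  rw [hn]
  refine (hp.coprime_iff_not_dvd.mpr fun hd => ?_).pow_left n
  set A0 := (N ⊓ A).subgroupOf N
  have hcomp : A0.IsComplement' ((N ⊓ B).subgroupOf N) := by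
    refine Subgroup.isComplement'_of_disjoint_and_mul_eq_univ ?_ ?_
    · rw [disjoint_iff]
      refine eq_bot_iff.mpr fun x hx => Subgroup.mem_bot.mpr ?_
      obtain ⟨h1, h2⟩ := Subgroup.mem_inf.mp hx
      exact Subtype.ext (s.eq_one_of_mem (Subgroup.mem_subgroupOf.mp h1).2
        (Subgroup.mem_subgroupOf.mp h2).2)
    · refine Set.eq_univ_of_forall fun g => ?_
      obtain ⟨a, ha, b, hb, e⟩ := hf g g.2
      exact ⟨⟨a, ha.1⟩, ha, ⟨b, hb.1⟩, hb, Subtype.ext e.symm⟩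
  have hidx : A0.index ∣ Nat.card B := by
    rw [hcomp.symm.index_eq_card, Nat.card_congr (Subgroup.subgroupOfEquivOfLe inf_le_left).toEquiv]
    exact Subgroup.card_dvd_of_le inf_le_right
  obtain ⟨Q⟩ := (inferInstance : Nonempty (Sylow p A0))
  have hQle : (Q : Subgroup A0).map A0.subtype ≤ (N ⊓ part p A).subgroupOf N := by
    have h1 : ((Q : Subgroup A0).map A0.subtype).map N.subtype ≤ part p A := by
      refine s.le_part ?_ ((Q.2.map _).map _)
      rintro _ ⟨_, ⟨⟨x, hx⟩, -, rfl⟩, rfl⟩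
      exact (Subgroup.mem_subgroupOf.mp hx).2
    intro x hx
    exact Subgroup.mem_subgroupOf.mpr ⟨x.2, h1 ⟨x, hx, rfl⟩⟩
  have := hd.trans (Subgroup.index_dvd_of_le hQle)
  rw [Subgroup.index_map_subtype] at this
  rcases hp.dvd_mul.mp this with h | h
  · exact Q.not_dvd_index h
  · exact not_dvd_of_coprime s.cop hp hpA (h.trans hidx)

/-- In a proper factorized subgroup the `p`-part of `A` and the `q`-part of `B` permute. -/
theorem Setup.exists_pq (s : Setup A B) {p q : ℕ} [Fact p.Prime] [Fact q.Prime]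
    (hpA : p ∣ Nat.card A) (hqB : q ∣ Nat.card B) {N : Subgroup G} (hN : N ≠ ⊤)
    (hf : ∀ g ∈ N, ∃ a ∈ N ⊓ A, ∃ b ∈ N ⊓ B, g = a * b) :
    ∃ J : Subgroup G, J ≤ N ∧ N ⊓ part p A ≤ J ∧ N ⊓ part q B ≤ J ∧
      ∀ g ∈ J, ∃ a ∈ part p A, a ∈ J ∧ ∃ b ∈ part q B, b ∈ J ∧ g = a * b := by
  haveI := s.solv N hN hf
  have hnorm : ∀ (C : Subgroup G) (D : Subgroup G), D ≤ C → C ≤ Subgroup.normalizer (D : Set G) →
      (((N ⊓ D).subgroupOf N).subgroupOf ((N ⊓ C).subgroupOf N)).Normal := by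
    intro C D hDC hn
    refine ⟨fun x hx g => ?_⟩
    simp only [Subgroup.mem_subgroupOf, Subgroup.mem_inf] at hx ⊢
    refine ⟨SetLike.coe_mem _, ?_⟩
    have h1 := (Subgroup.mem_normalizer_iff.mp (hn (Subgroup.mem_subgroupOf.mp g.2).2) _).mp hx.2
    simpa using h1
  have hsB : ∀ g ∈ N, ∃ a ∈ N ⊓ B, ∃ b ∈ N ⊓ A, g = a * b := fun g hg => by
    obtain ⟨a, ha, b, hb, e⟩ := hf g⁻¹ (inv_mem hg)
    exact ⟨b⁻¹, inv_mem hb, a⁻¹, inv_mem ha, by rw [← inv_inv g, e, mul_inv_rev]⟩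
  obtain ⟨S, hS⟩ := Cfsg.Agent.S0561.result ((N ⊓ A).subgroupOf N) ((N ⊓ B).subgroupOf N)
    ((N ⊓ part p A).subgroupOf N) ((N ⊓ part q B).subgroupOf N)
    (fun g => by
      obtain ⟨a, ha, b, hb, e⟩ := hf g g.2
      exact ⟨⟨a, ha.1⟩, ha, ⟨b, hb.1⟩, hb, Subtype.ext e⟩)
    (Subgroup.comap_mono (inf_le_inf_left _ (part_le p)))
    (hnorm A _ (part_le p) (le_normalizer_part p))
    (Subgroup.comap_mono (inf_le_inf_left _ (part_le q)))
    (hnorm B _ (part_le q) (le_normalizer_part q))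
    (s.coprime_index_part hpA hf) (s.symm.coprime_index_part hqB hsB) 1 1
  rw [map_one, one_smul, one_smul] at hS
  refine ⟨S.map N.subtype, Subgroup.map_subtype_le _, fun x hx => ?_, fun x hx => ?_, ?_⟩
  · refine ⟨⟨x, hx.1⟩, ?_, rfl⟩
    rw [hS]
    exact ⟨⟨x, hx.1⟩, hx, 1, one_mem _, mul_one _⟩
  · refine ⟨⟨x, hx.1⟩, ?_, rfl⟩
    rw [hS]
    exact ⟨1, one_mem _, ⟨x, hx.1⟩, hx, one_mul _⟩
  · rintro _ ⟨g, hg, rfl⟩
    rw [hS] at hg
    obtain ⟨a, ha, b, hb, rfl⟩ := hg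
    refine ⟨a, ha.2, ⟨a, ?_, rfl⟩, b, hb.2, ⟨b, ?_, rfl⟩, rfl⟩
    · rw [hS]; exact ⟨a, ha, 1, one_mem _, mul_one _⟩
    · rw [hS]; exact ⟨1, one_mem _, b, hb, one_mul _⟩

/-- A product of a `p`-subgroup of `A` and a `q`-subgroup of `B`. -/
structure PQ (p q : ℕ) (A B J : Subgroup G) : Prop where
  fac : ∀ g ∈ J, ∃ a ∈ part p A, a ∈ J ∧ ∃ b ∈ part q B, b ∈ J ∧ g = a * b
  solv : Group.IsSolvable J

theorem PQ.symm {p q : ℕ} {J : Subgroup G} (h : PQ p q A B J) : PQ q p B A J where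
  fac g hg := by
    obtain ⟨a, ha, haJ, b, hb, hbJ, e⟩ := h.fac g⁻¹ (inv_mem hg)
    exact ⟨b⁻¹, inv_mem hb, inv_mem hbJ, a⁻¹, inv_mem ha, inv_mem haJ,
      by rw [← inv_inv g, e, mul_inv_rev]⟩
  solv := h.solv

theorem PQ.core_le {p q : ℕ} [Fact p.Prime] [Fact q.Prime] (hpq : p ≠ q) {J : Subgroup G}
    (h : PQ p q A B J) : Cfsg.pCoreOf p J ≤ part p A := by
  intro r hr
  obtain ⟨a, ha, haJ, b, hb, hbJ, e⟩ := h.fac r (part_le (A := J) p hr)
  have hb' : b ∈ Cfsg.pCoreOf p J ⊔ (J ⊓ part p A) := by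
    rw [show b = a⁻¹ * r by rw [e, inv_mul_cancel_left]]
    exact mul_mem (Subgroup.mem_sup_right (inv_mem (show a ∈ J ⊓ part p A from ⟨haJ, ha⟩)))
      (Subgroup.mem_sup_left hr)
  have hpg : IsPGroup p ↥(Cfsg.pCoreOf p J ⊔ (J ⊓ part p A)) :=
    IsPGroup.to_sup_of_normal_left' (part_isPGroup (A := J) p) ((part_isPGroup p).to_le inf_le_right)
      (inf_le_left.trans (CfsgLib.Signalizer.normalizer_le_normalizer_pCoreOf p Subgroup.le_normalizer))
  have hb1 : b = 1 := Subgroup.mem_bot.mp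
    ((IsPGroup.disjoint_of_ne p q hpq _ _ hpg (part_isPGroup (A := B) q)).le_bot ⟨hb', hb⟩)
  rw [e, hb1, mul_one]
  exact ha

theorem PQ.core_eq_bot {p q t : ℕ} [Fact p.Prime] [Fact q.Prime] [Fact t.Prime] (s : Setup A B)
    (htp : t ≠ p) (htq : t ≠ q) {J : Subgroup G} (h : PQ p q A B J) : Cfsg.pCoreOf t J = ⊥ := by
  have hc : (J ⊓ part p A).subgroupOf J |>.IsComplement' ((J ⊓ part q B).subgroupOf J) := by
    refine Subgroup.isComplement'_of_disjoint_and_mul_eq_univ ?_ ?_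
    · rw [disjoint_iff]
      refine eq_bot_iff.mpr fun x hx => Subgroup.mem_bot.mpr ?_
      obtain ⟨h1, h2⟩ := Subgroup.mem_inf.mp hx
      exact Subtype.ext (s.eq_one_of_mem (part_le p (Subgroup.mem_subgroupOf.mp h1).2)
        (part_le q (Subgroup.mem_subgroupOf.mp h2).2))
    · refine Set.eq_univ_of_forall fun g => ?_
      obtain ⟨a, ha, haJ, b, hb, hbJ, e⟩ := h.fac g g.2
      exact ⟨⟨a, haJ⟩, ⟨haJ, ha⟩, ⟨b, hbJ⟩, ⟨hbJ, hb⟩, Subtype.ext e.symm⟩
  obtain ⟨i, hi⟩ := IsPGroup.iff_card.mp ((part_isPGroup (A := A) p).to_le (inf_le_right (a := J)))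
  obtain ⟨j, hj⟩ := IsPGroup.iff_card.mp ((part_isPGroup (A := B) q).to_le (inf_le_right (a := J)))
  obtain ⟨n, hn⟩ := IsPGroup.iff_card.mp (part_isPGroup (A := J) t)
  refine Subgroup.card_eq_one.mp ?_
  have hd : Nat.card (Cfsg.pCoreOf t J) ∣ Nat.card J := Subgroup.card_dvd_of_le (part_le t)
  rw [← hc.card_mul, Nat.card_congr (Subgroup.subgroupOfEquivOfLe inf_le_left).toEquiv,
    Nat.card_congr (Subgroup.subgroupOfEquivOfLe inf_le_left).toEquiv, hi, hj, hn] at hd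
  have hc' : (t ^ n).Coprime (p ^ i * q ^ j) :=
    Nat.Coprime.mul_right (Nat.coprime_pow_primes _ _ Fact.out Fact.out htp)
      (Nat.coprime_pow_primes _ _ Fact.out Fact.out htq)
  rw [hn]
  exact hc'.eq_one_of_dvd hd

/-- A central element of `A` of order `p` in a `{p, q}`-product centralizing the `q`-core lies in
the `p`-core. -/
theorem PQ.mem_core {p q : ℕ} [Fact p.Prime] [Fact q.Prime] (s : Setup A B) (hpq : p ≠ q)
    {J : Subgroup G} (h : PQ p q A B J) {z : G} (hz : Central A z) (hzJ : z ∈ J)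
    (hzo : orderOf z = p) (hzc : ∀ x ∈ Cfsg.pCoreOf q J, x * z = z * x) :
    z ∈ Cfsg.pCoreOf p J := by
  refine CfsgLib.Signalizer.le_pCoreOf_of_centralizes h.solv
    (Subgroup.zpowers_le.mpr hzJ) (isPGroup_zpowers hzo) (fun v hv => ?_) (Subgroup.mem_zpowers z)
  haveI := Fact.mk hv
  rw [Subgroup.zpowers_le, Subgroup.mem_centralizer_iff]
  intro x hx
  by_cases hvp : v = p
  · subst hvp
    exact hz.2 x (part_le v (h.core_le hpq hx))
  by_cases hvq : v = q
  · subst hvq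
    exact hzc x hx
  rw [h.core_eq_bot s hvp hvq, SetLike.mem_coe, Subgroup.mem_bot] at hx
  rw [hx, one_mul, mul_one]

theorem Setup.ne_of_dvd (s : Setup A B) {p q : ℕ} (hp : p.Prime) (hpA : p ∣ Nat.card A)
    (hqB : q ∣ Nat.card B) : p ≠ q := fun h => not_dvd_of_coprime s.cop hp hpA (h ▸ hqB)

/-- A factorized normalizer. -/
theorem Setup.exists_factorized (s : Setup A B) {X Y K : Subgroup G} (hX : X ≤ A)
    (hXn : A ≤ Subgroup.normalizer (X : Set G)) (hY : Y ≤ B)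
    (hYn : B ≤ Subgroup.normalizer (Y : Set G)) (hX1 : X ≠ ⊥) (hK : K ≠ ⊤) (hXK : X ≤ K)
    (hYK : Y ≤ K) :
    ∃ N : Subgroup G, N ≠ ⊤ ∧ X ≤ N ∧ Y ≤ N ∧
      ∀ g ∈ N, ∃ a ∈ N ⊓ A, ∃ b ∈ N ⊓ B, g = a * b := by
  refine ⟨Subgroup.normalizer ((X ⊔ Y : Subgroup G) : Set G), ?_,
    le_sup_left.trans Subgroup.le_normalizer, le_sup_right.trans Subgroup.le_normalizer,
    Cfsg.Agent.S0562.result A B X Y s.prod hX
      ((Subgroup.normal_subgroupOf_iff_le_normalizer hX).mpr hXn) hY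
      ((Subgroup.normal_subgroupOf_iff_le_normalizer hY).mpr hYn)⟩
  exact s.normalizer_ne_top (fun h => hX1 (le_bot_iff.mp (h ▸ le_sup_left)))
    (fun h => hK (eq_top_iff.mpr (h ▸ sup_le hXK hYK)))

theorem Central.normalizer_zpowers {z : G} (hz : Central A z) :
    A ≤ Subgroup.normalizer (Subgroup.zpowers z : Set G) := fun a ha =>
  mem_normalizer_of_forall_commute fun x hx => by
    obtain ⟨k, rfl⟩ := Subgroup.mem_zpowers_iff.mp hx
    exact (show Commute a z from hz.2 a ha).zpow_right k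

/-- No proper subgroup contains central elements of prime order of both factors. -/
theorem Setup.eq_top_of_prime (s : Setup A B) {p q : ℕ} [Fact p.Prime] [Fact q.Prime] {z w : G}
    (hz : Central A z) (hzo : orderOf z = p) (hw : Central B w) (hwo : orderOf w = q)
    {K : Subgroup G} (hzK : z ∈ K) (hwK : w ∈ K) : K = ⊤ := by
  by_contra hK
  have hpA : p ∣ Nat.card A := hzo ▸ Subgroup.orderOf_dvd_natCard A hz.1
  have hqB : q ∣ Nat.card B := hwo ▸ Subgroup.orderOf_dvd_natCard B hw.1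
  have hpq := s.ne_of_dvd Fact.out hpA hqB
  have hz1 := ne_one_of_orderOf_prime hzo
  have hw1 := ne_one_of_orderOf_prime hwo
  have hwM : w ∉ s.big := s.not_mem_of_central s.big_ne_top s.le_big hw hw1
  obtain ⟨N, hN, hzN, hwN, hf⟩ := s.exists_factorized (Subgroup.zpowers_le.mpr hz.1)
    hz.normalizer_zpowers (Subgroup.zpowers_le.mpr hw.1) hw.normalizer_zpowers
    (fun h => hz1 (Subgroup.mem_bot.mp (h ▸ Subgroup.mem_zpowers z))) hK
    (Subgroup.zpowers_le.mpr hzK) (Subgroup.zpowers_le.mpr hwK)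
  rw [Subgroup.zpowers_le] at hzN hwN
  obtain ⟨J, hJN, hpJ, hqJ, hJf⟩ := s.exists_pq hpA hqB hN hf
  have hJ : PQ p q A B J := ⟨hJf, by
    haveI := s.solv N hN hf
    exact solvable_of_solvable_injective (f := Subgroup.inclusion hJN) (Subgroup.inclusion_injective hJN)⟩
  have hzJ : z ∈ J := hpJ ⟨hzN, s.mem_part hz.1 hzo⟩
  have hwJ : w ∈ J := hqJ ⟨hwN, s.symm.mem_part hw.1 hwo⟩
  set T := Cfsg.pCoreOf p J
  have hTA : T ≤ part p A := hJ.core_le hpq
  have hJT : J ≤ Subgroup.normalizer (T : Set G) :=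
    CfsgLib.Signalizer.normalizer_le_normalizer_pCoreOf p Subgroup.le_normalizer
  have hzT : z ∉ T := fun h => hwM
    (s.normalizer_le_big (hTA.trans (part_le p)) (part_isPGroup _) h hz hz1 (hJT hwJ))
  have hT1 : T ≠ ⊥ := by
    intro hT
    have hwS : w ∈ Cfsg.pCoreOf q J := hJ.symm.mem_core s.symm hpq.symm hw hwJ hwo fun x hx => by
      rw [show x = 1 from Subgroup.mem_bot.mp (hT ▸ hx), one_mul, mul_one]
    have hSB : Cfsg.pCoreOf q J ≤ part q B := hJ.symm.core_le hpq.symm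
    exact s.symm.not_mem_of_central s.symm.big_ne_top s.symm.le_big hz hz1
      (s.symm.normalizer_le_big (hSB.trans (part_le q)) (part_isPGroup _) hwS hw hw1
        (CfsgLib.Signalizer.normalizer_le_normalizer_pCoreOf q Subgroup.le_normalizer hzJ))
  obtain ⟨r, hr, hrp, hrA⟩ := s.exists_other_prime p
  haveI := Fact.mk hr
  have hrq := s.ne_of_dvd hr hrA hqB
  obtain ⟨N', hN', hrN', hwN', hf'⟩ := s.exists_factorized (part_le r) (le_normalizer_part r)
    (Subgroup.zpowers_le.mpr hw.1) hw.normalizer_zpowers (s.part_ne_bot hrA)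
    (K := Subgroup.normalizer (T : Set G))
    (s.normalizer_ne_top hT1 (s.ne_top_of_isPGroup (part_isPGroup p)))
    (fun x hx => mem_normalizer_of_forall_commute fun y hy => s.commute_part hrp hx (hTA hy))
    (Subgroup.zpowers_le.mpr (hJT hwJ))
  rw [Subgroup.zpowers_le] at hwN'
  obtain ⟨J', hJN', hrJ', hqJ', hJf'⟩ := s.exists_pq hrA hqB hN' hf'
  have hJ' : PQ r q A B J' := ⟨hJf', by
    haveI := s.solv N' hN' hf'
    exact solvable_of_solvable_injective (f := Subgroup.inclusion hJN') (Subgroup.inclusion_injective hJN')⟩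
  have hrJ : part r A ≤ J' := fun x hx => hrJ' ⟨hrN' hx, hx⟩
  have hwJ' : w ∈ J' := hqJ' ⟨hwN', s.symm.mem_part hw.1 hwo⟩
  set T' := Cfsg.pCoreOf r J'
  have hT'A : T' ≤ part r A := hJ'.core_le hrq
  have hJT' : J' ≤ Subgroup.normalizer (T' : Set G) :=
    CfsgLib.Signalizer.normalizer_le_normalizer_pCoreOf r Subgroup.le_normalizer
  rcases ne_or_eq T' ⊥ with hT' | hT'
  · have hAT : A ≤ Subgroup.normalizer (T' : Set G) := fun a ha => by
      obtain ⟨x, hx, c, hc, hcc, rfl⟩ := s.exists_part_mul r ha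
      exact mul_mem (hJT' (hrJ hx)) (mem_normalizer_of_forall_commute fun y hy => hcc y (hT'A hy))
    exact hwM (s.le_big_of (s.normalizer_ne_top hT' (s.ne_top_of_isPGroup (part_isPGroup r)))
      hAT (hJT' hwJ'))
  · have hwS : w ∈ Cfsg.pCoreOf q J' := hJ'.symm.mem_core s.symm hrq.symm hw hwJ' hwo fun x hx => by
      rw [show x = 1 from Subgroup.mem_bot.mp (hT' ▸ hx), one_mul, mul_one]
    have hSB : Cfsg.pCoreOf q J' ≤ part q B := hJ'.symm.core_le hrq.symm
    obtain ⟨u, hu, huo⟩ := s.exists_central hrA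
    exact s.symm.not_mem_of_central s.symm.big_ne_top s.symm.le_big hu (ne_one_of_orderOf_prime huo)
      (s.symm.normalizer_le_big (hSB.trans (part_le q)) (part_isPGroup _) hwS hw hw1
        (CfsgLib.Signalizer.normalizer_le_normalizer_pCoreOf q Subgroup.le_normalizer
          (hrJ (s.mem_part hu.1 huo))))

/-- No proper subgroup contains nontrivial central elements of both factors. -/
theorem Setup.eq_top_of_central (s : Setup A B) {z w : G} (hz : Central A z) (hz1 : z ≠ 1)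
    (hw : Central B w) (hw1 : w ≠ 1) {K : Subgroup G} (hzK : z ∈ K) (hwK : w ∈ K) : K = ⊤ := by
  obtain ⟨p, hp, -, i, hi⟩ := exists_pow_prime_order hz1
  obtain ⟨q, hq, -, j, hj⟩ := exists_pow_prime_order hw1
  haveI := Fact.mk hp
  haveI := Fact.mk hq
  exact s.eq_top_of_prime (hz.pow i) hi (hw.pow j) hj (pow_mem hzK i) (pow_mem hwK j)

/-- The same for arbitrary conjugates. -/
theorem Setup.eq_top_of_conj (s : Setup A B) {z w g h : G} (hz : Central A z) (hz1 : z ≠ 1)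
    (hw : Central B w) (hw1 : w ≠ 1) {K : Subgroup G} (hzK : g * z * g⁻¹ ∈ K)
    (hwK : h * w * h⁻¹ ∈ K) : K = ⊤ := by
  obtain ⟨a, ha, b, hb, e⟩ := s.prod (g⁻¹ * h)
  have hh : h = g * a * b := by rw [mul_assoc, ← e, mul_inv_cancel_left]
  set f := (MulAut.conj (g * a)).toMonoidHom
  have h1 : z ∈ K.comap f := by
    rw [Subgroup.mem_comap]
    show (g * a) * z * (g * a)⁻¹ ∈ K
    convert hzK using 1
    rw [mul_inv_rev, mul_assoc g a z, hz.2 a ha]; group
  have h2 : w ∈ K.comap f := by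
    rw [Subgroup.mem_comap]
    show (g * a) * w * (g * a)⁻¹ ∈ K
    convert hwK using 1
    rw [hh, mul_inv_rev (g * a) b, mul_assoc (g * a) b w, hw.2 b hb]; group
  have h3 := s.eq_top_of_central hz hz1 hw hw1 h1 h2
  refine eq_top_iff.mpr fun x _ => ?_
  have h4 := Subgroup.mem_comap.mp (h3 ▸ Subgroup.mem_top ((g * a)⁻¹ * x * (g * a)) :
    (g * a)⁻¹ * x * (g * a) ∈ K.comap f)
  simpa [f, mul_assoc] using h4

end CfsgLib.NilProduct
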