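import Cfsg.Agent.Lib.NilProduct.Setup

/-!
# The unique maximal subgroup containing a factor
-/

set_option autoImplicit false
set_option linter.style.haveILetI false

open scoped Pointwise

namespace CfsgLib.NilProduct

variable {G : Type*} [Group G] [Finite G] {A B : Subgroup G}

theorem normalizer_le_normalizer_centralizer (K : Subgroup G) :
    Subgroup.normalizer (K : Set G) ≤ Subgroup.normalizer (Subgroup.centralizer (K : Set G) : Set G) := by
  have key : ∀ g ∈ Subgroup.normalizer (K : Set G), ∀ c ∈ Subgroup.centralizer (K : Set G),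
      g * c * g⁻¹ ∈ Subgroup.centralizer (K : Set G) := by
    intro g hg c hc
    refine Subgroup.mem_centralizer_iff.mpr fun k hk => ?_
    have h1 : g⁻¹ * k * g ∈ K := by
      simpa using (Subgroup.mem_normalizer_iff.mp (inv_mem hg) k).mp hk
    have h2 := Subgroup.mem_centralizer_iff.mp hc _ h1
    calc k * (g * c * g⁻¹) = g * ((g⁻¹ * k * g) * c) * g⁻¹ := by group
      _ = g * (c * (g⁻¹ * k * g)) * g⁻¹ := by rw [h2]
      _ = g * c * g⁻¹ * k := by group
  intro g hg
  refine Subgroup.mem_normalizer_iff.mpr fun c => ⟨key g hg c, fun hc => ?_⟩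
  simpa [mul_assoc] using key g⁻¹ (inv_mem hg) _ hc

/-- An overgroup of `A` is factorized, hence solvable when proper. -/
theorem Setup.solvable_of_le (s : Setup A B) {H : Subgroup G} (hH : H ≠ ⊤) (hAH : A ≤ H) :
    Group.IsSolvable H :=
  s.solv H hH fun g hg => by
    obtain ⟨a, ha, b, hb, rfl⟩ := s.prod g
    exact ⟨a, ⟨hAH ha, ha⟩, b, ⟨by simpa using H.mul_mem (H.inv_mem (hAH ha)) hg, hb⟩, rfl⟩

/-- A normal subgroup of a subgroup contains both factors of each of its elements. -/
theorem Setup.mem_of_mul_mem (s : Setup A B) {C H : Subgroup G} (hCH : C ≤ H)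
    (hn : H ≤ Subgroup.normalizer (C : Set G)) {a b : G} (haH : a ∈ H) (ha : a ∈ A) (hbH : b ∈ H)
    (hb : b ∈ B) (h : a * b ∈ C) : a ∈ C := by
  haveI : (C.subgroupOf H).Normal := (Subgroup.normal_subgroupOf_iff_le_normalizer hCH).mpr hn
  set f := QuotientGroup.mk' (C.subgroupOf H)
  have e : f ⟨a, haH⟩ = f ⟨b⁻¹, inv_mem hbH⟩ := by
    have h1 : f (⟨a, haH⟩ * ⟨b, hbH⟩) = 1 := (QuotientGroup.eq_one_iff _).mpr h
    rw [map_mul] at h1
    rw [eq_inv_of_mul_eq_one_left h1]
    exact (map_inv f ⟨b, hbH⟩).symm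
  have h2 : f ⟨a, haH⟩ = 1 := orderOf_eq_one_iff.mp <| Nat.eq_one_of_dvd_coprimes s.cop
    ((orderOf_map_dvd f _).trans
      (by rw [Subgroup.orderOf_mk]; exact Subgroup.orderOf_dvd_natCard A ha))
    (e ▸ (orderOf_map_dvd f _).trans
      (by rw [Subgroup.orderOf_mk]; exact Subgroup.orderOf_dvd_natCard B (inv_mem hb)))
  exact Subgroup.mem_subgroupOf.mp ((QuotientGroup.eq_one_iff _).mp h2)

theorem Setup.core_le_part (s : Setup A B) {p : ℕ} [Fact p.Prime] (hp : p ∣ Nat.card A)
    {H : Subgroup G} (hAH : A ≤ H) : Cfsg.pCoreOf p H ≤ part p A := by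
  obtain ⟨P, hP⟩ := s.part_eq_sylow hp
  have hn : (P : Subgroup G) ≤ Subgroup.normalizer (Cfsg.pCoreOf p H : Set G) := by
    rw [hP]
    exact ((part_le p).trans hAH).trans
      (CfsgLib.Signalizer.normalizer_le_normalizer_pCoreOf p Subgroup.le_normalizer)
  have h1 : IsPGroup p ↥(Cfsg.pCoreOf p H ⊔ (P : Subgroup G)) :=
    IsPGroup.to_sup_of_normal_left' (part_isPGroup (A := H) p) P.2 hn
  rw [← hP, ← P.3 h1 le_sup_right]
  exact le_sup_left

theorem Setup.core_eq_bot (s : Setup A B) {t : ℕ} [Fact t.Prime] (ht : ¬ t ∣ Nat.card A)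
    {H : Subgroup G} (hAH : A ≤ H) : Cfsg.pCoreOf t H = ⊥ := by
  set R := Cfsg.pCoreOf t H
  have hn : H ≤ Subgroup.normalizer (R : Set G) :=
    CfsgLib.Signalizer.normalizer_le_normalizer_pCoreOf t Subgroup.le_normalizer
  refine s.eq_bot_of_le_B (fun r hr => ?_) (hAH.trans hn)
  obtain ⟨a, ha, b, hb, e⟩ := s.prod r
  have haR : a ∈ R := s.mem_of_mul_mem (part_le (A := H) t) hn (hAH ha) ha
    (by simpa [e] using H.mul_mem (H.inv_mem (hAH ha)) (part_le (A := H) t hr)) hb (e ▸ hr)
  obtain ⟨n, hn⟩ := IsPGroup.iff_card.mp (part_isPGroup (A := H) t)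
  have hRc : (Nat.card R).Coprime (Nat.card A) := by
    rw [hn]
    exact ((Fact.out : t.Prime).coprime_iff_not_dvd.mpr ht).pow_left n
  have ha1 : a = 1 := orderOf_eq_one_iff.mp <| Nat.eq_one_of_dvd_coprimes hRc
    (Subgroup.orderOf_dvd_natCard R haR) (Subgroup.orderOf_dvd_natCard A ha)
  rw [e, ha1, one_mul]
  exact hb

/-- In a proper overgroup of `A`, a central `p`-element of `A` lies in the `p`-core. -/
theorem Setup.central_mem_core (s : Setup A B) {p : ℕ} [Fact p.Prime] {z : G} (hz : Central A z)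
    (hzo : orderOf z = p) {H : Subgroup G} (hH : H ≠ ⊤) (hAH : A ≤ H) :
    z ∈ Cfsg.pCoreOf p H := by
  refine CfsgLib.Signalizer.le_pCoreOf_of_centralizes (s.solvable_of_le hH hAH)
    (Subgroup.zpowers_le.mpr (hAH hz.1)) (isPGroup_zpowers hzo) (fun v hv => ?_)
    (Subgroup.mem_zpowers z)
  haveI := Fact.mk hv
  rw [Subgroup.zpowers_le, Subgroup.mem_centralizer_iff]
  intro x hx
  by_cases hvA : v ∣ Nat.card A
  · exact hz.2 x (part_le v (s.core_le_part hvA hAH hx))
  · rw [s.core_eq_bot hvA hAH, SetLike.mem_coe, Subgroup.mem_bot] at hx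
    rw [hx, one_mul, mul_one]

/-- The Frattini argument for a component of `A`. -/
theorem Setup.frattini (s : Setup A B) {r : ℕ} [Fact r.Prime] (hr : r ∣ Nat.card A)
    {C H : Subgroup G} (hn : H ≤ Subgroup.normalizer (C : Set G)) (hC : part r A ≤ C) {h : G}
    (hh : h ∈ H) : ∃ c ∈ C, c⁻¹ * h ∈ Subgroup.normalizer (part r A : Set G) := by
  obtain ⟨P, hP⟩ := s.part_eq_sylow hr
  rw [← hP] at hC ⊢
  have hC' : ((h • P : Sylow r G) : Subgroup G) ≤ C := by
    intro x hx
    rw [Sylow.coe_subgroup_smul, Subgroup.mem_pointwise_smul_iff_inv_smul_mem] at hx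
    have h2 := hC hx
    simp only [MulAut.smul_def, MulAut.inv_apply, MulAut.conj_symm_apply] at h2
    refine (Subgroup.mem_normalizer_iff.mp (hn hh) _).mp h2 |> fun h3 => ?_
    simpa [mul_assoc] using h3
  obtain ⟨c, hc⟩ := MulAction.exists_smul_eq C (P.subtype hC) ((h • P).subtype hC')
  rw [Sylow.smul_subtype] at hc
  have e := Sylow.subtype_injective hc
  refine ⟨c, c.2, ?_⟩
  apply Sylow.smul_eq_iff_mem_normalizer.mp
  rw [mul_smul, ← e]
  exact inv_smul_smul (c : G) P

/-- A proper subgroup contains every proper overgroup of `A`. -/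
theorem Setup.exists_big (s : Setup A B) :
    ∃ M : Subgroup G, M ≠ ⊤ ∧ A ≤ M ∧ ∀ H : Subgroup G, H ≠ ⊤ → A ≤ H → H ≤ M := by
  obtain ⟨p, hp, hpA⟩ := exists_prime_orderOf s.A_ne_bot
  haveI := Fact.mk hp
  obtain ⟨r, hr, hrp, hrA⟩ := s.exists_other_prime p
  haveI := Fact.mk hr
  have hne : ∀ (t : ℕ) [Fact t.Prime], t ∣ Nat.card A →
      Subgroup.normalizer (part t A : Set G) ≠ ⊤ := fun t _ ht =>
    s.normalizer_ne_top (s.part_ne_bot ht) (s.ne_top_of_isPGroup (part_isPGroup t))
  set E := Cfsg.pCoreOf p (Subgroup.normalizer (part r A : Set G))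
  obtain ⟨z, hz, hzo⟩ := s.exists_central hpA
  have hzE : z ∈ E := s.central_mem_core hz hzo (hne r hrA) (le_normalizer_part r)
  have hE1 : E ≠ ⊥ := fun h => ne_one_of_orderOf_prime hzo (Subgroup.mem_bot.mp (h ▸ hzE))
  have hEP : E ≤ part p A := s.core_le_part hpA (le_normalizer_part r)
  have hEt : E ≠ ⊤ := s.ne_top_of_isPGroup (part_isPGroup _)
  refine ⟨Subgroup.normalizer (E : Set G), s.normalizer_ne_top hE1 hEt, ?_, ?_⟩
  · exact (le_normalizer_part r).trans
      (CfsgLib.Signalizer.normalizer_le_normalizer_pCoreOf p Subgroup.le_normalizer)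
  have hNr : Subgroup.normalizer (part r A : Set G) ≤ Subgroup.normalizer (E : Set G) :=
    CfsgLib.Signalizer.normalizer_le_normalizer_pCoreOf p Subgroup.le_normalizer
  have hNp : Subgroup.normalizer (part p A : Set G) ≤ Subgroup.normalizer (E : Set G) := by
    intro h hh
    obtain ⟨c, hc, hch⟩ := s.frattini hrA (C := Subgroup.centralizer (part p A : Set G))
      (H := Subgroup.normalizer (part p A : Set G))
      (normalizer_le_normalizer_centralizer _)
      (fun x hx => Subgroup.mem_centralizer_iff.mpr fun y hy => s.commute_part hrp.symm hy hx) hh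
    have hcE : c ∈ Subgroup.normalizer (E : Set G) := mem_normalizer_of_forall_commute
      fun x hx => (Subgroup.mem_centralizer_iff.mp hc x (hEP hx)).symm
    simpa using mul_mem hcE (hNr hch)
  intro H hH hAH
  induction' hn : Nat.card H using Nat.strong_induction_on with n IH generalizing H
  subst hn
  set C : ℕ → Subgroup G := fun q => H ⊓ Subgroup.centralizer (Cfsg.pCoreOf q H : Set G) with hC
  have hCn : ∀ q, H ≤ Subgroup.normalizer (C q : Set G) := by
    intro q
    have h0 : H ≤ Subgroup.normalizer (Cfsg.pCoreOf q H : Set G) :=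
      CfsgLib.Signalizer.normalizer_le_normalizer_pCoreOf q Subgroup.le_normalizer
    exact (le_inf Subgroup.le_normalizer (h0.trans (normalizer_le_normalizer_centralizer _))).trans
      Subgroup.inf_normalizer_le_normalizer_inf
  by_cases hex : ∃ q, q.Prime ∧ q ∣ Nat.card A ∧ A ⊔ C q ≠ H
  · obtain ⟨q, hq, hqA, hqne⟩ := hex
    haveI := Fact.mk hq
    have hlt : A ⊔ C q < H := lt_of_le_of_ne (sup_le hAH inf_le_left) hqne
    have hK := IH _ (Set.Finite.card_lt_card (Set.toFinite _) (SetLike.coe_ssubset_coe.mpr hlt))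
      (A ⊔ C q) (fun h => hH (eq_top_iff.mpr (h ▸ hlt.le))) le_sup_left rfl
    obtain ⟨t, ht, htA, htq, htN⟩ : ∃ t, t.Prime ∧ t ∣ Nat.card A ∧ t ≠ q ∧
        Subgroup.normalizer (part t A : Set G) ≤ Subgroup.normalizer (E : Set G) := by
      by_cases hqr : q = r
      · exact ⟨p, hp, hpA, fun h => hrp (hqr ▸ h.symm), hNp⟩
      · exact ⟨r, hr, hrA, fun h => hqr h.symm, hNr⟩
    haveI := Fact.mk ht
    intro h hh
    obtain ⟨c, hc, hch⟩ := s.frattini htA (hCn q) (fun x hx => ⟨hAH (part_le t hx),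
      Subgroup.mem_centralizer_iff.mpr fun y hy =>
        s.commute_part htq.symm (s.core_le_part hqA hAH hy) hx⟩) hh
    simpa using mul_mem (hK (Subgroup.mem_sup_right hc)) (htN hch)
  · push Not at hex
    have hB : ∀ b ∈ H, b ∈ B → ∀ q, q.Prime → q ∣ Nat.card A → b ∈ C q := by
      intro b hb hbB q hq hqA
      have hb' : b ∈ A ⊔ C q := (hex q hq hqA).symm ▸ hb
      rw [sup_comm] at hb'
      obtain ⟨c, hc, a, ha, e⟩ : b ∈ (C q : Set G) * (A : Set G) := by
        rw [← Subgroup.coe_mul_of_right_le_normalizer_left (C q) A (hAH.trans (hCn q))]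
        exact hb'
      refine s.symm.mem_of_mul_mem inf_le_left (hCn q) hb hbB (inv_mem (hAH ha)) (inv_mem ha) ?_
      simpa [← e, hC] using hc
    intro h hh
    obtain ⟨a, ha, b, hb, rfl⟩ := s.prod h
    have hbH : b ∈ H := by simpa using H.mul_mem (H.inv_mem (hAH ha)) hh
    have hb1 : b = 1 := by
      by_contra hb1
      obtain ⟨q, hq, -, k, hk⟩ := exists_pow_prime_order hb1
      haveI := Fact.mk hq
      have hqA : ¬ q ∣ Nat.card A := not_dvd_of_coprime s.cop.symm hq
        (hk ▸ Subgroup.orderOf_dvd_natCard B (pow_mem hb k))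
      have := CfsgLib.Signalizer.le_pCoreOf_of_centralizes (s.solvable_of_le hH hAH)
        (Subgroup.zpowers_le.mpr (pow_mem hbH k)) (isPGroup_zpowers hk) (fun v hv => by
          haveI := Fact.mk hv
          rw [Subgroup.zpowers_le]
          by_cases hvA : v ∣ Nat.card A
          · exact (hB _ (pow_mem hbH k) (pow_mem hb k) v hv hvA).2
          · rw [s.core_eq_bot hvA hAH, Subgroup.mem_centralizer_iff]
            intro x hx
            rw [SetLike.mem_coe, Subgroup.mem_bot] at hx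
            rw [hx, one_mul, mul_one]) (Subgroup.mem_zpowers (b ^ k))
      rw [s.core_eq_bot hqA hAH, Subgroup.mem_bot] at this
      exact ne_one_of_orderOf_prime hk this
    subst hb1
    rw [mul_one]
    exact hNr (le_normalizer_part r ha)

/-- The maximal subgroup containing `A`. -/
noncomputable def Setup.big (s : Setup A B) : Subgroup G := s.exists_big.choose

theorem Setup.big_ne_top (s : Setup A B) : s.big ≠ ⊤ := s.exists_big.choose_spec.1

theorem Setup.le_big (s : Setup A B) : A ≤ s.big := s.exists_big.choose_spec.2.1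

theorem Setup.le_big_of (s : Setup A B) {H : Subgroup G} (hH : H ≠ ⊤) (hAH : A ≤ H) : H ≤ s.big :=
  s.exists_big.choose_spec.2.2 H hH hAH

theorem Setup.normalizer_part_le (s : Setup A B) {p : ℕ} [Fact p.Prime] (hp : p ∣ Nat.card A) :
    Subgroup.normalizer (part p A : Set G) ≤ s.big :=
  s.le_big_of (s.normalizer_ne_top (s.part_ne_bot hp) (s.ne_top_of_isPGroup (part_isPGroup p)))
    (le_normalizer_part p)

theorem Setup.centralizer_le_big (s : Setup A B) {z : G} (hz : Central A z) (hz1 : z ≠ 1) :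
    Subgroup.centralizer ({z} : Set G) ≤ s.big :=
  s.le_big_of (s.centralizer_ne_top hz1) hz.le_centralizer

theorem Setup.mem_big_of_conj_part (s : Setup A B) {p : ℕ} [Fact p.Prime] (hp : p ∣ Nat.card A)
    {g : G} (h : ∀ x ∈ part p A, g * x * g⁻¹ ∈ s.big) : g ∈ s.big := by
  obtain ⟨P, hP⟩ := s.part_eq_sylow hp
  have h1 : (P : Subgroup G) ≤ s.big := hP ▸ (part_le p).trans s.le_big
  have h2 : ((g • P : Sylow p G) : Subgroup G) ≤ s.big := by
    intro x hx
    rw [Sylow.coe_subgroup_smul, Subgroup.mem_pointwise_smul_iff_inv_smul_mem] at hx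
    simp only [MulAut.smul_def, MulAut.inv_apply, MulAut.conj_symm_apply] at hx
    have h5 := h (g⁻¹ * x * g) (hP ▸ hx)
    rwa [show g * (g⁻¹ * x * g) * g⁻¹ = x by group] at h5
  obtain ⟨c, hc⟩ := MulAction.exists_smul_eq s.big (P.subtype h1) ((g • P).subtype h2)
  rw [Sylow.smul_subtype] at hc
  have e := Sylow.subtype_injective hc
  have h3 : (c : G)⁻¹ * g ∈ Subgroup.normalizer ((P : Subgroup G) : Set G) := by
    apply Sylow.smul_eq_iff_mem_normalizer.mp
    rw [mul_smul, ← e]
    exact inv_smul_smul (c : G) P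
  rw [hP] at h3
  simpa using mul_mem c.2 (s.normalizer_part_le hp h3)

/-- The normalizer of a `p`-subgroup of `A` containing a central element lies in the maximal
subgroup. -/
theorem Setup.normalizer_le_big (s : Setup A B) {p : ℕ} [Fact p.Prime] {T : Subgroup G}
    (hTA : T ≤ A) (hT : IsPGroup p T) {z : G} (hzT : z ∈ T) (hz : Central A z) (hz1 : z ≠ 1) :
    Subgroup.normalizer (T : Set G) ≤ s.big := by
  obtain ⟨r, hr, hrp, hrA⟩ := s.exists_other_prime p
  haveI := Fact.mk hr
  intro y hy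
  refine s.mem_big_of_conj_part hrA fun x hx => s.centralizer_le_big hz hz1
    (Subgroup.mem_centralizer_singleton_iff.mpr ?_)
  have hy' : y⁻¹ * z * y ∈ T := by
    simpa using (Subgroup.mem_normalizer_iff.mp (inv_mem hy) z).mp hzT
  have h1 : (y⁻¹ * z * y) * x = x * (y⁻¹ * z * y) :=
    s.commute_part hrp.symm (s.le_part hTA hT hy') hx
  calc y * x * y⁻¹ * z = y * (x * (y⁻¹ * z * y)) * y⁻¹ := by group
    _ = y * ((y⁻¹ * z * y) * x) * y⁻¹ := by rw [h1]
    _ = z * (y * x * y⁻¹) := by group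

end CfsgLib.NilProduct
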