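import Mathlib
import Cfsg.Agent.S0143
import Cfsg.Agent.Lib.Transfer.Hall
import Cfsg.Agent.Lib.Signalizer.Radical

/-!
# A simple group that is the product of two nilpotent subgroups of coprime orders

The set-up of the proof of Wielandt's theorem: basic facts on the factors.
-/

set_option autoImplicit false
set_option linter.style.haveILetI false

open scoped Pointwise

namespace CfsgLib.NilProduct

variable {G : Type*} [Group G] [Finite G]

/-- A nonabelian simple group `G = A B` with `A`, `B` nilpotent of coprime orders in which every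
proper factorized subgroup is solvable. -/
structure Setup (A B : Subgroup G) : Prop where
  simple : IsSimpleGroup G
  noncomm : ¬ IsMulCommutative G
  nilA : Group.IsNilpotent A
  nilB : Group.IsNilpotent B
  cop : (Nat.card A).Coprime (Nat.card B)
  prod : ∀ g : G, ∃ a ∈ A, ∃ b ∈ B, g = a * b
  solv : ∀ H : Subgroup G, H ≠ ⊤ → (∀ g ∈ H, ∃ a ∈ H ⊓ A, ∃ b ∈ H ⊓ B, g = a * b) →
    Group.IsSolvable H

/-- The `p`-component of a subgroup, as a subgroup of the whole group. -/
abbrev part (p : ℕ) (A : Subgroup G) : Subgroup G := Cfsg.pCoreOf p A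

/-- `z` is an element of `A` commuting with all of `A`. -/
def Central (A : Subgroup G) (z : G) : Prop := z ∈ A ∧ ∀ a ∈ A, a * z = z * a

theorem Central.pow {A : Subgroup G} {z : G} (h : Central A z) (n : ℕ) : Central A (z ^ n) :=
  ⟨pow_mem h.1 n, fun a ha => Commute.pow_right (h.2 a ha) n⟩

theorem Central.le_centralizer {A : Subgroup G} {z : G} (h : Central A z) :
    A ≤ Subgroup.centralizer ({z} : Set G) := fun a ha =>
  Subgroup.mem_centralizer_singleton_iff.mpr (h.2 a ha)

/-- A Sylow subgroup of a nilpotent group is its `p`-core. -/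
theorem pCore_eq_sylow {K : Type*} [Group K] [Finite K] [Group.IsNilpotent K] {p : ℕ} [Fact p.Prime]
    (P : Sylow p K) : Cfsg.pCore p K = (P : Subgroup K) := by
  have h := Fitting.le_pCore (CfsgLib.Transfer.sylow_normal_of_isNilpotent P) P.2
  exact P.3 (Fitting.pCore_isPGroup p) h

theorem exists_prime_orderOf {K : Subgroup G} (hK : K ≠ ⊥) :
    ∃ p : ℕ, p.Prime ∧ p ∣ Nat.card K :=
  Nat.exists_prime_and_dvd fun h => hK (Subgroup.card_eq_one.mp h)

/-- A nontrivial element has a power of prime order. -/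
theorem exists_pow_prime_order {g : G} (hg : g ≠ 1) :
    ∃ p : ℕ, p.Prime ∧ p ∣ orderOf g ∧ ∃ k : ℕ, orderOf (g ^ k) = p := by
  obtain ⟨p, hp, hd⟩ := Nat.exists_prime_and_dvd (n := orderOf g) fun h => hg (orderOf_eq_one_iff.mp h)
  refine ⟨p, hp, hd, orderOf g / p, ?_⟩
  rw [orderOf_pow_of_dvd (Nat.div_pos (Nat.le_of_dvd (orderOf_pos g) hd) hp.pos).ne'
    (Nat.div_dvd_of_dvd hd), Nat.div_div_self hd (orderOf_pos g).ne']

theorem ne_one_of_orderOf_prime {g : G} {p : ℕ} [Fact p.Prime] (h : orderOf g = p) : g ≠ 1 :=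
  fun h1 => (Fact.out : p.Prime).ne_one (by rw [← h, h1, orderOf_one])

theorem isPGroup_zpowers {g : G} {p : ℕ} [Fact p.Prime] (h : orderOf g = p) :
    IsPGroup p (Subgroup.zpowers g) :=
  IsPGroup.of_card (n := 1) (by rw [Nat.card_zpowers, h, pow_one])

theorem not_dvd_of_coprime {m n p : ℕ} (h : m.Coprime n) (hp : p.Prime) (hm : p ∣ m) : ¬ p ∣ n :=
  fun hn => hp.ne_one (Nat.eq_one_of_dvd_coprimes h hm hn)

/-- The normalizer of a nontrivial proper subgroup of a simple group is proper. -/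
theorem normalizer_ne_top [IsSimpleGroup G] {K : Subgroup G} (h1 : K ≠ ⊥) (h2 : K ≠ ⊤) :
    Subgroup.normalizer (K : Set G) ≠ ⊤ := by
  intro h
  rcases (Subgroup.normalizer_eq_top_iff.mp h).eq_bot_or_eq_top with h' | h'
  · exact h1 h'
  · exact h2 h'

theorem mem_normalizer_of_forall_commute {K : Subgroup G} {c : G} (h : ∀ x ∈ K, c * x = x * c) :
    c ∈ Subgroup.normalizer (K : Set G) := by
  refine Subgroup.mem_normalizer_iff.mpr fun x => ⟨fun hx => ?_, fun hx => ?_⟩
  · rwa [h x hx, mul_inv_cancel_right]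
  · have h1 := h _ hx
    have h2 : c * x * c⁻¹ = x := by
      have h3 := congrArg (fun u => c⁻¹ * u * c) (show c * (c * x * c⁻¹) * c⁻¹ = c * x * c⁻¹ by
        rw [h1, mul_inv_cancel_right])
      simpa [mul_assoc] using h3
    rwa [h2] at hx

variable {A B : Subgroup G}

theorem Setup.symm (s : Setup A B) : Setup B A where
  simple := s.simple
  noncomm := s.noncomm
  nilA := s.nilB
  nilB := s.nilA
  cop := s.cop.symm
  prod g := by
    obtain ⟨a, ha, b, hb, h⟩ := s.prod g⁻¹
    exact ⟨b⁻¹, inv_mem hb, a⁻¹, inv_mem ha, by rw [← inv_inv g, h, mul_inv_rev]⟩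
  solv H hH h := s.solv H hH fun g hg => by
    obtain ⟨b, hb, a, ha, e⟩ := h g⁻¹ (inv_mem hg)
    exact ⟨a⁻¹, inv_mem ha, b⁻¹, inv_mem hb, by rw [← inv_inv g, e, mul_inv_rev]⟩

theorem Setup.prod' (s : Setup A B) (g : G) : ∃ b ∈ B, ∃ a ∈ A, g = b * a := s.symm.prod g

theorem Setup.nontrivial (s : Setup A B) : Nontrivial G := s.simple.toNontrivial

theorem Setup.inf_eq_bot (s : Setup A B) : A ⊓ B = ⊥ :=
  Subgroup.inf_eq_bot_of_coprime s.cop

theorem Setup.eq_one_of_mem (s : Setup A B) {x : G} (hA : x ∈ A) (hB : x ∈ B) : x = 1 :=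
  Subgroup.mem_bot.mp (s.inf_eq_bot ▸ Subgroup.mem_inf.mpr ⟨hA, hB⟩)

theorem Setup.complement (s : Setup A B) : A.IsComplement' B := by
  refine Subgroup.isComplement'_of_disjoint_and_mul_eq_univ (disjoint_iff.mpr s.inf_eq_bot) ?_
  refine Set.eq_univ_of_forall fun g => ?_
  obtain ⟨a, ha, b, hb, rfl⟩ := s.prod g
  exact Set.mul_mem_mul ha hb

theorem Setup.card_mul (s : Setup A B) : Nat.card A * Nat.card B = Nat.card G := s.complement.card_mul

theorem Setup.index_A (s : Setup A B) : A.index = Nat.card B := s.complement.symm.index_eq_card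

theorem Setup.not_solvable (s : Setup A B) : ¬ Group.IsSolvable G := fun h => by
  haveI := s.simple
  exact s.noncomm ⟨⟨IsSimpleGroup.comm_iff_isSolvable.mpr h⟩⟩

theorem Setup.A_ne_top (s : Setup A B) : A ≠ ⊤ := fun h => by
  haveI := s.nilA
  exact s.not_solvable (solvable_of_surjective (f := A.subtype)
    (fun g => ⟨⟨g, h ▸ trivial⟩, rfl⟩))

theorem Setup.A_ne_bot (s : Setup A B) : A ≠ ⊥ := fun h => s.symm.A_ne_top <| by
  refine eq_top_iff.mpr fun g _ => ?_
  obtain ⟨a, ha, b, hb, rfl⟩ := s.prod g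
  rw [h, Subgroup.mem_bot] at ha
  rwa [ha, one_mul]

theorem Setup.normalizer_ne_top (s : Setup A B) {K : Subgroup G} (h1 : K ≠ ⊥) (h2 : K ≠ ⊤) :
    Subgroup.normalizer (K : Set G) ≠ ⊤ :=
  haveI := s.simple; NilProduct.normalizer_ne_top h1 h2

theorem Setup.ne_top_of_isPGroup (s : Setup A B) {p : ℕ} [Fact p.Prime] {K : Subgroup G}
    (hK : IsPGroup p K) : K ≠ ⊤ := fun h => by
  haveI := hK.isNilpotent
  exact s.not_solvable (solvable_of_surjective (f := K.subtype) (fun g => ⟨⟨g, h ▸ trivial⟩, rfl⟩))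

theorem Setup.centralizer_ne_top (s : Setup A B) {z : G} (hz : z ≠ 1) :
    Subgroup.centralizer ({z} : Set G) ≠ ⊤ := fun h => by
  haveI := s.simple
  have hc : z ∈ Subgroup.center G := Subgroup.mem_center_iff.mpr fun g =>
    Subgroup.mem_centralizer_singleton_iff.mp (h ▸ Subgroup.mem_top g)
  rcases (inferInstance : (Subgroup.center G).Normal).eq_bot_or_eq_top with h0 | h0
  · exact hz (Subgroup.mem_bot.mp (h0 ▸ hc))
  · exact s.noncomm ⟨⟨fun a b => (Subgroup.mem_center_iff.mp (h0 ▸ Subgroup.mem_top b)) a⟩⟩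

/-- A subgroup of `B` normalized by `A` is trivial. -/
theorem Setup.eq_bot_of_le_B (s : Setup A B) {R : Subgroup G} (hR : R ≤ B)
    (hn : A ≤ Subgroup.normalizer (R : Set G)) : R = ⊥ := by
  haveI := s.simple
  have hle : Subgroup.normalClosure (R : Set G) ≤ B := by
    rw [Subgroup.normalClosure, Subgroup.closure_le]
    intro y hy
    obtain ⟨x, hx, hxy⟩ := Group.mem_conjugatesOfSet_iff.mp hy
    obtain ⟨g, rfl⟩ := isConj_iff.mp hxy
    obtain ⟨b, hb, a, ha, rfl⟩ := s.prod' g
    have h1 := hR ((Subgroup.mem_normalizer_iff.mp (hn ha) x).mp hx)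
    have h2 := B.mul_mem (B.mul_mem hb h1) (B.inv_mem hb)
    simpa [mul_assoc] using h2
  rcases (Subgroup.normalClosure_normal (s := (R : Set G))).eq_bot_or_eq_top with h | h
  · exact le_bot_iff.mp (h ▸ Subgroup.subset_normalClosure)
  · exact absurd (eq_top_iff.mpr (h ▸ hle)) s.symm.A_ne_top

/-- All conjugates of a central element of `B` lying in an overgroup of `A` stay there. -/
theorem Setup.normalClosure_le (s : Setup A B) {H : Subgroup G} (hAH : A ≤ H) {w : G}
    (hw : Central B w) (hwH : w ∈ H) : Subgroup.normalClosure ({w} : Set G) ≤ H := by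
  rw [Subgroup.normalClosure, Subgroup.closure_le]
  intro y hy
  obtain ⟨x, hx, hxy⟩ := Group.mem_conjugatesOfSet_iff.mp hy
  rw [Set.mem_singleton_iff] at hx
  subst hx
  obtain ⟨g, rfl⟩ := isConj_iff.mp hxy
  obtain ⟨a, ha, b, hb, rfl⟩ := s.prod g
  have : a * b * x * (a * b)⁻¹ = a * x * a⁻¹ := by
    rw [mul_inv_rev, mul_assoc a b x, hw.2 b hb]; group
  rw [this]
  exact H.mul_mem (H.mul_mem (hAH ha) hwH) (H.inv_mem (hAH ha))

theorem Setup.not_mem_of_central (s : Setup A B) {H : Subgroup G} (hH : H ≠ ⊤) (hAH : A ≤ H)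
    {w : G} (hw : Central B w) (hw1 : w ≠ 1) : w ∉ H := fun hwH => by
  haveI := s.simple
  rcases (Subgroup.normalClosure_normal (s := ({w} : Set G))).eq_bot_or_eq_top with h | h
  · exact hw1 (Subgroup.mem_bot.mp (h ▸ Subgroup.subset_normalClosure (Set.mem_singleton w)))
  · exact hH (eq_top_iff.mpr (h ▸ s.normalClosure_le hAH hw hwH))

/-! ### The components -/

theorem part_le (p : ℕ) : part p A ≤ A := CfsgLib.Signalizer.pCoreOf_le p A

theorem part_isPGroup (p : ℕ) : IsPGroup p (part p A) := (Fitting.pCore_isPGroup p).map _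

theorem le_normalizer_part (p : ℕ) : A ≤ Subgroup.normalizer (part p A : Set G) :=
  CfsgLib.Signalizer.normalizer_le_normalizer_pCoreOf p Subgroup.le_normalizer

theorem Setup.le_part (s : Setup A B) {p : ℕ} [Fact p.Prime] {P : Subgroup G} (hPA : P ≤ A)
    (hP : IsPGroup p P) : P ≤ part p A := by
  haveI := s.nilA
  obtain ⟨Q, hQ⟩ := (hP.comap_of_injective A.subtype A.subtype_injective).exists_le_sylow
  rw [← pCore_eq_sylow Q] at hQ
  have := Subgroup.map_mono (f := A.subtype) hQ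
  rwa [show Subgroup.comap A.subtype P = P.subgroupOf A from rfl,
    Subgroup.map_subgroupOf_eq_of_le hPA] at this

theorem Setup.mem_part (s : Setup A B) {p : ℕ} [Fact p.Prime] {x : G} (hx : x ∈ A)
    (hord : orderOf x = p) : x ∈ part p A :=
  s.le_part (Subgroup.zpowers_le.mpr hx) (isPGroup_zpowers hord) (Subgroup.mem_zpowers x)

theorem Setup.commute_part (s : Setup A B) {p r : ℕ} [Fact p.Prime] [Fact r.Prime] (hpr : p ≠ r)
    {x y : G} (hx : x ∈ part p A) (hy : y ∈ part r A) : x * y = y * x := by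
  haveI := s.nilA
  obtain ⟨P⟩ := (inferInstance : Nonempty (Sylow p A))
  obtain ⟨R⟩ := (inferInstance : Nonempty (Sylow r A))
  obtain ⟨x, hx, rfl⟩ := hx
  obtain ⟨y, hy, rfl⟩ := hy
  rw [SetLike.mem_coe, pCore_eq_sylow P] at hx
  rw [SetLike.mem_coe, pCore_eq_sylow R] at hy
  exact congrArg Subtype.val (Subgroup.commute_of_normal_of_disjoint _ _
    (CfsgLib.Transfer.sylow_normal_of_isNilpotent P) (CfsgLib.Transfer.sylow_normal_of_isNilpotent R)
    (IsPGroup.disjoint_of_ne p r hpr _ _ P.2 R.2) x y hx hy).eq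

theorem Setup.exists_part_mul (s : Setup A B) (p : ℕ) [Fact p.Prime] {a : G} (ha : a ∈ A) :
    ∃ x ∈ part p A, ∃ c ∈ A, (∀ y ∈ part p A, c * y = y * c) ∧ a = x * c := by
  haveI := s.nilA
  obtain ⟨P⟩ := (inferInstance : Nonempty (Sylow p A))
  haveI := CfsgLib.Transfer.sylow_normal_of_isNilpotent P
  have h : (⟨a, ha⟩ : A) ∈ (P : Subgroup A) ⊔ Subgroup.centralizer ((P : Subgroup A) : Set A) := by
    rw [CfsgLib.Transfer.sylow_sup_centralizer_eq_top]; trivial
  obtain ⟨x, hx, c, hc, e⟩ := Subgroup.mem_sup_of_normal_left.mp h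
  refine ⟨x, ⟨x, by rw [SetLike.mem_coe, pCore_eq_sylow P]; exact hx, rfl⟩, c, c.2, ?_,
    (congrArg Subtype.val e).symm⟩
  rintro _ ⟨y, hy, rfl⟩
  rw [SetLike.mem_coe, pCore_eq_sylow P] at hy
  exact (congrArg Subtype.val (Subgroup.mem_centralizer_iff.mp hc y hy)).symm

theorem Setup.part_card (s : Setup A B) (p : ℕ) [Fact p.Prime] :
    Nat.card (part p A) = p ^ (Nat.card A).factorization p := by
  haveI := s.nilA
  obtain ⟨P⟩ := (inferInstance : Nonempty (Sylow p A))
  rw [part, Cfsg.pCoreOf, Subgroup.card_map_of_injective A.subtype_injective, pCore_eq_sylow P]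
  exact P.card_eq_multiplicity

theorem Setup.part_ne_bot (s : Setup A B) {p : ℕ} [Fact p.Prime] (hp : p ∣ Nat.card A) :
    part p A ≠ ⊥ := fun h => by
  have h1 := s.part_card p
  rw [h, Subgroup.card_bot] at h1
  exact ((Fact.out : p.Prime).factorization_pos_of_dvd Nat.card_pos.ne' hp).ne'
    ((Nat.pow_eq_one.mp h1.symm).resolve_left (Fact.out : p.Prime).ne_one)

theorem Setup.part_eq_sylow (s : Setup A B) {p : ℕ} [Fact p.Prime] (hp : p ∣ Nat.card A) :
    ∃ P : Sylow p G, (P : Subgroup G) = part p A := by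
  haveI := s.nilA
  obtain ⟨P⟩ := (inferInstance : Nonempty (Sylow p A))
  obtain ⟨Q, hQ⟩ := CfsgLib.Transfer.exists_sylow_le_of_hall (H := A)
    (by rw [s.index_A]; exact s.cop) hp P
  exact ⟨Q, by rw [hQ, part, Cfsg.pCoreOf, pCore_eq_sylow P]⟩

theorem Setup.part_eq_bot (s : Setup A B) {p : ℕ} [Fact p.Prime] (hp : ¬ p ∣ Nat.card A) :
    part p A = ⊥ := by
  rw [← Subgroup.card_eq_one, s.part_card, Nat.factorization_eq_zero_of_not_dvd hp, pow_zero]

/-- A subgroup containing every component of `A` contains `A`. -/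
theorem Setup.le_of_forall_part (s : Setup A B) {K : Subgroup G}
    (h : ∀ p : ℕ, p.Prime → p ∣ Nat.card A → part p A ≤ K) : A ≤ K := by
  haveI := s.nilA
  rw [← Subgroup.subgroupOf_eq_top, ← Subgroup.index_eq_one]
  by_contra hne
  obtain ⟨p, hp, hd⟩ := Nat.exists_prime_and_dvd hne
  haveI := Fact.mk hp
  obtain ⟨P⟩ := (inferInstance : Nonempty (Sylow p A))
  refine P.not_dvd_index (hd.trans (Subgroup.index_dvd_of_le ?_))
  intro x hx
  refine Subgroup.mem_subgroupOf.mpr (h p hp ?_ ⟨x, by rw [SetLike.mem_coe, pCore_eq_sylow P]; exact hx, rfl⟩)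
  exact hd.trans ((K.subgroupOf A).index_dvd_card)

/-- A central element of order `p`. -/
theorem Setup.exists_central (s : Setup A B) {p : ℕ} [Fact p.Prime] (hp : p ∣ Nat.card A) :
    ∃ z, Central A z ∧ orderOf z = p := by
  haveI := s.nilA
  obtain ⟨P⟩ := (inferInstance : Nonempty (Sylow p A))
  haveI : Nontrivial (P : Subgroup A) :=
    (Subgroup.nontrivial_iff_ne_bot _).mpr (P.ne_bot_of_dvd_card hp)
  haveI := P.2.center_nontrivial
  have hcard : p ∣ Nat.card (Subgroup.center (P : Subgroup A)) :=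
    (P.2.to_subgroup (Subgroup.center (P : Subgroup A))).card_eq_or_dvd.resolve_left
      (Finite.one_lt_card (α := Subgroup.center (P : Subgroup A))).ne'
  obtain ⟨⟨z, hzc⟩, hzo⟩ := exists_prime_orderOf_dvd_card' p hcard
  rw [Subgroup.orderOf_mk] at hzo
  refine ⟨((z : A) : G), ⟨(z : A).2, fun a ha => ?_⟩, ?_⟩
  · haveI := CfsgLib.Transfer.sylow_normal_of_isNilpotent P
    have h : (⟨a, ha⟩ : A) ∈ (P : Subgroup A) ⊔ Subgroup.centralizer ((P : Subgroup A) : Set A) := by
      rw [CfsgLib.Transfer.sylow_sup_centralizer_eq_top]; trivial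
    obtain ⟨x, hx, c, hc, e⟩ := Subgroup.mem_sup_of_normal_left.mp h
    have e1 : x * (z : A) = (z : A) * x :=
      congrArg Subtype.val (Subgroup.mem_center_iff.mp hzc ⟨x, hx⟩)
    have e2 : (z : A) * c = c * (z : A) := Subgroup.mem_centralizer_iff.mp hc z z.2
    have : (⟨a, ha⟩ : A) * (z : A) = (z : A) * ⟨a, ha⟩ := by
      rw [← e, mul_assoc, ← e2, ← mul_assoc, e1, mul_assoc]
    exact congrArg Subtype.val this
  · rw [Subgroup.orderOf_coe, Subgroup.orderOf_coe, hzo]

/-- By Burnside, no factor has prime power order. -/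
theorem Setup.exists_other_prime (s : Setup A B) (p : ℕ) [hp : Fact p.Prime] :
    ∃ r, r.Prime ∧ r ≠ p ∧ r ∣ Nat.card A := by
  by_contra hc
  push Not at hc
  have hA : ∃ n, Nat.card A = p ^ n := ⟨_, Nat.eq_prime_pow_of_unique_prime_dvd Nat.card_pos.ne'
    fun {d} hd hdvd => by
      by_contra h
      exact hc d hd h hdvd⟩
  obtain ⟨n, hn⟩ := hA
  obtain ⟨q, hq, hqd⟩ := exists_prime_orderOf s.symm.A_ne_bot
  haveI := Fact.mk hq
  obtain ⟨w, hw, hwo⟩ := s.symm.exists_central hqd
  have h1 : (Subgroup.centralizer ({w} : Set G)).index ∣ p ^ n := by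
    rw [← hn, ← s.symm.index_A]
    exact Subgroup.index_dvd_of_le hw.le_centralizer
  obtain ⟨k, -, hk⟩ := (Nat.dvd_prime_pow hp.out).mp h1
  haveI := s.simple
  have := Cfsg.Agent.S0143.result p k hp.out w (ne_one_of_orderOf_prime hwo) hk
  haveI := Fact.mk this
  exact s.noncomm (isCyclic_of_prime_card (α := G) rfl).isMulCommutative

end CfsgLib.NilProduct
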